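import Cfsg.Agent.HZ.Basic
import Cfsg.Agent.HZ.Gen.Sep
import Cfsg.Agent.KZ.Mts.Main
import Cfsg.Agent.KZ.Lie.ApiC
import Cfsg.Agent.LV.Blk.Main

/-!
# HZ (S4909), the rows of Lie type in odd characteristic: definitions and boxes (helper66)

Plan: `notes/HZ/plan.md`.  A root system is a set of pairs (root, coroot) in the coordinates `R` of the torus, a label is a
function `R → ℂˣ`.  A label system `LS` is an equivalence relation on labels for every admissible root system.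
-/

set_option autoImplicit false
set_option linter.unusedSectionVars false

namespace Cfsg.Agent.HZ.L

open Cfsg Cfsg.Agent.DL Cfsg.Agent.DL.PP Cfsg.Agent.DL.Uni Cfsg.Agent.DL.Asm Cfsg.Agent.Nodes.Reps Matrix
  Cfsg.Agent.KZ.Lie Cfsg.Agent.HZ.Gen Cfsg.Agent.ODD.Red

/-! ### the combinatorial layer -/

abbrev Vec (R : Type) : Type := R → ℤ

abbrev Lb (R : Type) : Type := R → ℂˣ

abbrev Mat (R : Type) : Type := Matrix R R ℤ

/-- sets of pairs (root, coroot) -/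
abbrev RS (R : Type) : Type := Set (Vec R × Vec R)

section Comb

variable {R R' : Type} [Fintype R] [DecidableEq R] [Fintype R'] [DecidableEq R']

/-- the reflection on the cocharacter lattice -/
def rfm (a : Vec R × Vec R) : Mat R := 1 - vecMulVec a.2 a.1

/-- the Weyl group -/
def WW (Ψ : RS R) : Submonoid (Mat R) := Submonoid.closure (rfm '' Ψ)

/-- the Levi subsystem of a cocharacter -/
def lev (Ψ : RS R) (lam : Vec R) : RS R := {a | a ∈ Ψ ∧ a.1 ⬝ᵥ lam = 0}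

/-- `A` maps the label `c` to `c'` (`Rel D u = Tl (D.Wm u)`, `Fx D w c = Tl (D.Wm w * D.Mx) c c`) -/
def Tl (A : Mat R) (c c' : Lb R) : Prop := ∀ v, chr (A *ᵥ v) c' = chr v c

/-- `A` normalises `Ψ` -/
def Nm (A : Mat R) (Ψ : RS R) : Prop := ∀ a ∈ Ψ, ∃ b ∈ Ψ, A *ᵥ a.2 = b.2 ∧ b.1 ᵥ* A = a.1

/-- conjugate labels -/
def Cj (Ψ : RS R) (c c' : Lb R) : Prop := ∃ w ∈ WW Ψ, Tl w c c'

/-- central cocharacters -/
def Perp (Ψ : RS R) (v : Vec R) : Prop := ∀ a ∈ Ψ, a.1 ⬝ᵥ v = 0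

/-- finite order prime to `p` -/
def Fo (p : ℕ) (c : Lb R) : Prop := ∃ n, ¬ p ∣ n ∧ c ^ n = 1

/-- the `2`-part of the order divides `4` -/
def Gd (c : Lb R) : Prop := ∃ n, Odd n ∧ c ^ (4 * n) = 1

/-- the Galois action on labels -/
def gal (σ : ℂ ≃+* ℂ) (c : Lb R) : Lb R := fun j => Units.map (σ : ℂ →* ℂ) (c j)

/-- the value of a root at a complex vector -/
def ev (a : Vec R) (y : R → ℂ) : ℂ := (fun i => (a i : ℂ)) ⬝ᵥ y

/-- eigenvectors -/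
def IsE (A : Mat R) (μ : ℂ) (y : R → ℂ) : Prop := A.map (Int.cast : ℤ → ℂ) *ᵥ y = μ • y

/-- `μ` has an eigenvector which is not central -/
def Eig (Ψ : RS R) (A : Mat R) (μ : ℂ) : Prop := ∃ y, IsE A μ y ∧ ∃ a ∈ Ψ, ev a.1 y ≠ 0

/-- a stable orthogonal decomposition -/
structure Dec (Ψ Ψ₁ Ψ₂ : RS R) (B : Mat R) : Prop where
  union : Ψ = Ψ₁ ∪ Ψ₂
  orth : ∀ a ∈ Ψ₁, ∀ b ∈ Ψ₂, a.1 ⬝ᵥ b.2 = 0 ∧ b.1 ⬝ᵥ a.2 = 0
  nm₁ : Nm B Ψ₁
  nm₂ : Nm B Ψ₂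

/-- a bijection which keeps the Cartan integers -/
def Iso (Ψ : RS R) (Ψ' : RS R') : Prop := ∃ φ : Ψ ≃ Ψ', ∀ a b, (φ a).1.1 ⬝ᵥ (φ b).1.2 = a.1.1 ⬝ᵥ b.1.2

/-- the restriction of a label along `J` : `chr v (pl J c) = chr (J *ᵥ v) c` -/
noncomputable def pl (J : Matrix R' R ℤ) (c : Lb R') : Lb R := fun i => chr (fun j => J j i) c

/-- the torsion of the characters modulo the root lattice is a `p`-group -/
def Cz (p : ℕ) (Ψ : RS R) : Prop := ∃ m : ℕ, ∀ l : Submodule.span ℤ (Prod.fst '' Ψ) →ₗ[ℤ] ℤ,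
  ∃ lam : Vec R, ∀ x : Submodule.span ℤ (Prod.fst '' Ψ), x.1 ⬝ᵥ lam = p ^ m * l x

end Comb

/-- the three classical kinds -/
inductive Kd | B | C | D

/-- the standard system: type `A` on the blocks `≠ 0`, the kind `κ` on the block `0` -/
def std {ι : Type} [DecidableEq ι] (κ : Kd) (blk : ι → ℕ) : RS ι :=
  {a | (∃ i j, i ≠ j ∧ blk i = blk j ∧ a = (Pi.single i 1 - Pi.single j 1, Pi.single i 1 - Pi.single j 1)) ∨
    (∃ i j, ∃ s : ℤˣ, i ≠ j ∧ blk i = 0 ∧ blk j = 0 ∧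
      a = (Pi.single i (s : ℤ) + Pi.single j (s : ℤ), Pi.single i (s : ℤ) + Pi.single j (s : ℤ))) ∨
    ∃ i, ∃ s : ℤˣ, blk i = 0 ∧ (κ = .B ∧ a = (Pi.single i (s : ℤ), Pi.single i (2 * s : ℤ)) ∨
      κ = .C ∧ a = (Pi.single i (2 * s : ℤ), Pi.single i (s : ℤ)))}

/-- the exact types: `A`, and one factor `Dₙ (n ≤ 7)`, `Bₙ`, `Cₙ (n ≤ 3)` -/
def Ex {R : Type} [Fintype R] (Ψ : RS R) : Prop := ∃ (n : ℕ) (κ : Kd) (blk : Fin n → ℕ), Iso Ψ (std κ blk) ∧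
  (Nat.card {i // blk i = 0} ≤ 3 ∨ κ = .D ∧ Nat.card {i // blk i = 0} ≤ 7)

/-- label systems -/
structure LS : Type 1 where
  adm : ∀ {R : Type} [Fintype R] [DecidableEq R], RS R → Mat R → Prop
  rel : ∀ {R : Type} [Fintype R] [DecidableEq R], RS R → Lb R → Lb R → Prop
  /-- labels which do not occur in height zero -/
  ht : ∀ {R : Type} [Fintype R] [DecidableEq R], RS R → Mat R → Lb R → Prop

/-- the exact system -/
def exL (p : ℕ) : LS := ⟨fun Ψ _ => Ex Ψ ∧ Cz p Ψ, Cj, fun _ _ _ => False⟩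

section Ctl

variable {R : Type} [Fintype R] [DecidableEq R]

/-- the Levi subsystem of `lam` controls the class of `c` -/
def Ct (p : ℕ) (L : LS) (Ψ : RS R) (lam : Vec R) (c : Lb R) : Prop :=
  ∀ c' c'' h, h ∈ WW Ψ → L.rel (lev Ψ lam) c c' → L.rel (lev Ψ lam) c c'' → Tl h c' c'' → Fo p c' → h ∈ WW (lev Ψ lam)

/-- `c` has a proper `A`-stable core -/
def Ctl (p : ℕ) (L : LS) (Ψ : RS R) (A : Mat R) (c : Lb R) : Prop :=
  ∃ lam₀, lev Ψ lam₀ ≠ Ψ ∧ Nm A (lev Ψ lam₀) ∧ ∀ lam, lev Ψ lam₀ ⊆ lev Ψ lam → lev Ψ lam ≠ Ψ → Ct p L Ψ lam c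

/-- fourth powers of isolated `2`-elements are central and in the kernel; `M` is the matrix of `F`, `w` the type of `c` -/
def LF (Ψ : RS R) (M w : Mat R) (c : Lb R) : Prop :=
  ∀ w' ∈ WW Ψ, ∀ (e : ℕ) (x : Vec R), (∀ i, (2 : ℤ) ^ e ∣ ((w' * M - 1) *ᵥ x) i) →
    (∀ lam, (∀ a ∈ Ψ, (2 : ℤ) ^ e ∣ a.1 ⬝ᵥ x → a.1 ⬝ᵥ lam = 0) → Perp Ψ lam) →
    (∀ a ∈ Ψ, (2 : ℤ) ^ e ∣ 4 * (a.1 ⬝ᵥ x)) ∧ ∀ v, (w * M - 1) *ᵥ ((4 : ℤ) • x) = ((2 : ℤ) ^ e) • v → chr v c = 1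

end Ctl

/-! ### data -/

/-- a property of all data in characteristic `p` -/
def AllD (p : ℕ) [Fact p.Prime] (P : ∀ {k : Type} [Field k] [CharP k p] [IsAlgClosed k] {Y : Type} [Group Y] {N : Type}
    [Fintype N] [DecidableEq N] {ρ : Y →* GL N k} {F : MulAut Y} {G : Subgroup Y} (_ : Datum p ρ F G)
    [Fintype ↥(GF F G)], Prop) : Prop :=
  ∀ {k : Type} [Field k] [CharP k p] [IsAlgClosed k] {Y : Type} [Group Y] {N : Type} [Fintype N] [DecidableEq N]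
    {ρ : Y →* GL N k} {F : MulAut Y} {G : Subgroup Y} (D : Datum p ρ F G) [Fintype ↥(GF F G)], P D

variable {p : ℕ} [Fact p.Prime] {k : Type} [Field k] [CharP k p] [IsAlgClosed k] {Y : Type} [Group Y] {N : Type}
  [Fintype N] [DecidableEq N] {ρ : Y →* GL N k} {F : MulAut Y} {G : Subgroup Y} (D : Datum p ρ F G)

/-- the root system of a datum -/
def rts : RS D.R := {a | ∃ b, D.Rt b ∧ a = (D.wt b, D.cor b)}

/-- the number of roots -/
noncomputable def nr : ℕ := (rts D).ncard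

/-- quasi-split, and `F` acts as `p ^ j • B` -/
structure St (j : ℕ) (B : Mat D.R) : Prop where
  pos : 0 < j
  mx : D.Mx = ((p : ℤ) ^ j) • B
  qs : D.QS
  fin : ∃ n, 0 < n ∧ B ^ n = 1
  ex : ∀ a, D.Rt a → D.ex a = j

/-- a sub-datum in the same coordinates -/
structure Sb where
  y : Y
  hy : y ∈ G
  hF : y⁻¹ * F y ∈ D.NN
  Z : Set Y
  hZ : Z ⊆ (D.conj hy hF).T
  hg : ∀ a ∈ (D.conj hy hF).Sz Z, (D.conj hy hF).g a ∈ (D.conj hy hF).Sz Z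

variable {D}

namespace Sb

variable (s : Sb D)

/-- the subgroup -/
noncomputable def K : Subgroup Y := (D.conj s.hy s.hF).cen s.Z

/-- its datum -/
@[reducible] noncomputable def E : Datum p ρ F s.K := (D.conj s.hy s.hF).sub s.hZ s.hg rfl

/-- the type of the frame -/
noncomputable def w : D.W := D.pr (s.y⁻¹ * F s.y)

/-- the Weyl group of the subgroup -/
noncomputable def sw : s.E.W →* D.W := (D.conj s.hy s.hF).subW s.Z

theorem K_le : s.K ≤ G := (D.conj s.hy s.hF).cen_le_G _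

theorem le : GF F s.K ≤ GF F G := fun _ h => ⟨s.K_le h.1, h.2⟩

theorem Mx_eq : s.E.Mx = D.Wm s.w * D.Mx := rfl

theorem Wm_eq (u : s.E.W) : s.E.Wm u = D.Wm (s.sw u) := by
  obtain ⟨m, hm, -⟩ := s.E.exists_rp u
  rw [← conj_Wm s.hy s.hF]
  exact mon_inj (k := k) fun c => (D.conj s.hy s.hF).τ_inj ((s.E.conj_τ hm c).symm.trans
    ((D.conj s.hy s.hF).conj_τ ((D.conj s.hy s.hF).rp_of_sub s.hZ s.hg rfl hm) c))

theorem WM_eq (u : s.E.W) : s.E.Wm u * s.E.Mx = D.Wm (s.sw u * s.w) * D.Mx := by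
  rw [Wm_eq, Mx_eq, D.Wm_mul, mul_assoc]

/-- the level of the sub-datum -/
def fr (f : Fr D) : Fr s.E := ⟨f.d, f.e, ⟨f.L.d_pos, f.L.e_pos, fun u => by rw [WM_eq]; exact f.L.pow _⟩, f.ζ, f.hζ⟩

/-- the inclusion of the finite groups -/
noncomputable def ι : ↥(GF F s.K) →* ↥(GF F G) := Subgroup.inclusion s.le

/-- the restriction -/
noncomputable def rs (r : ℕ) (P : Subgroup ↥(GF F G)) (φ : ↥(GF F G) → ℂ) : ↥(GF F s.K) → ℂ := Gen.rs r P φ ∘ s.ι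

/-- the subgroup is the centraliser of the `r`-group `P` -/
structure For (r : ℕ) (P : Subgroup ↥(GF F G)) : Prop where
  grp : IsPGroup r P
  cen : s.K = G ⊓ Subgroup.centralizer (P.map (GF F G).subtype : Set Y)
  qs : s.E.QS

end Sb

variable (D) in
/-- the size of the datum; it is the same for all lifts -/
noncomputable def sz : ℕ := 2 * nb D * pc 2 (GF F G)

variable (D) in
/-- huge primes -/
structure Hu (r : ℕ) : Prop where
  prime : r.Prime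
  ne : r ≠ p
  big : bd (sz D) (sz D ^ 8) < r

variable (D) in
/-- the eigenvectors for `μ` have reductions modulo `r` with the same roots -/
def Pr (B : Mat D.R) (r : ℕ) (μ : ℂ) : Prop := ∀ w y, IsE (D.Wm w * B) μ y → ∃ z : Vec D.R,
  (∀ i, (r : ℤ) ∣ ((D.Wm w * D.Mx - 1) *ᵥ z) i) ∧ ∀ a ∈ rts D, ((r : ℤ) ∣ a.1 ⬝ᵥ z ↔ ev a.1 y = 0)

variable [Fintype ↥(GF F G)]

/-- `(w, c)` is a label of `χ` -/
def Has (f : Fr D) (χ : ↥(GF F G) → ℂ) (w : D.W) (c : Lbl D) : Prop := classInner χ (RW f w c) ≠ 0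

/-- the weight of a set of labels -/
noncomputable def aL (f : Fr D) (Λ : Set (Lbl D)) (χ : ↥(GF F G) → ℂ) : ℂ :=
  (Nat.card D.W : ℂ)⁻¹ * (∑ᶠ (w : D.W) (c : Lbl D) (_ : c ∈ Λ), classInner χ (RW f w c) * RW f w c 1) / χ 1

/-- `χ` corresponds to `ε η` -/
def Cor (s : Sb D) [Fintype ↥(GF F s.K)] (r : ℕ) (P : Subgroup ↥(GF F G)) (χ : ↥(GF F G) → ℂ) (ε : ℂ)
    (η : ↥(GF F s.K) → ℂ) : Prop :=
  (ε = 1 ∨ ε = -1) ∧ ∀ φ, Sm r (sz D ^ 2) φ → classInner φ χ = ε * classInner (s.rs r P φ) η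

variable (D)

/-- all labels of an irreducible character are related -/
def One (L : LS) : Prop :=
  ∀ (f : Fr D) χ, IsIrrCharacter _ χ → ∀ w c w' c', Has f χ w c → Has f χ w' c' → L.rel (rts D) c c'

variable (p) in
/-- `One` for fewer roots -/
def OneLt (L : LS) (n : ℕ) : Prop := AllD p fun D => ∀ j B, St D j B → L.adm (rts D) B → nr D < n → One D L

variable (p) in
/-- the exact statement for the exact types with fewer roots -/
def ExLt (n : ℕ) : Prop := AllD p fun D => ∀ j B, St D j B → Ex (rts D) → nr D < n → One D (exL p)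

variable (p) in
/-- the exact statement for the exact types -/
def ExAll : Prop := AllD p fun D => ∀ j B, St D j B → Ex (rts D) → One D (exL p)

variable {D}

/-- a common eigenvalue links two labels -/
def Link (L : LS) (B : Mat D.R) (f : Fr D) (χ : ↥(GF F G) → ℂ) : Prop := ∀ w c w' c' μ, Has f χ w c → Has f χ w' c' →
  Eig (rts D) (D.Wm w * B) μ → Eig (rts D) (D.Wm w' * B) μ → L.rel (rts D) c c'

/-- exactness on a factor of exact type -/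
def Cr (B : Mat D.R) (f : Fr D) (χ : ↥(GF F G) → ℂ) : Prop := ∀ Ψ₁ Ψ₂, Dec (rts D) Ψ₁ Ψ₂ B → Ψ₂.Nonempty → Ex Ψ₁ →
  ∀ w c w' c', Has f χ w c → Has f χ w' c' → ∃ h ∈ WW Ψ₁, ∀ v, Perp Ψ₂ v → chr (h *ᵥ v) c' = chr v c

variable (D)

/-- the base case of `One` -/
def B1 (L : LS) (B : Mat D.R) : Prop := ∀ (f : Fr D) χ, IsIrrCharacter _ χ → Link L B f χ → Cr B f χ →
  (∀ w c, Has f χ w c → ¬ Ctl p L (rts D) (D.Wm w * B) c) →
  ∀ w c w' c', Has f χ w c → Has f χ w' c' → L.rel (rts D) c c'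

/-- the axioms of a label system at an admissible datum -/
structure OKat (L : LS) (B : Mat D.R) : Prop where
  symm : ∀ c c', L.rel (rts D) c c' → L.rel (rts D) c' c
  trans : ∀ c c' c'', L.rel (rts D) c c' → L.rel (rts D) c' c'' → L.rel (rts D) c c''
  cj : ∀ v c c', Rel D v c c' → L.rel (rts D) c c'
  adm : ∀ w lam, Nm (D.Wm w * B) (lev (rts D) lam) → L.adm (lev (rts D) lam) (D.Wm w * B)
  mon : ∀ w lam, Nm (D.Wm w * B) (lev (rts D) lam) → ∀ c c', L.rel (lev (rts D) lam) c c' → L.rel (rts D) c c'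

/-- the trichotomy -/
structure Tri (L : LS) (B : Mat D.R) : Prop where
  hom : ∀ c c', L.rel (rts D) c c' → Fo p c → Fo p c' → Gd c → Gd c'
  bad : ∀ w c, Fx D w c → ¬ Gd c → ∀ σ, Sg σ → L.rel (rts D) c (gal σ c) →
    Ctl p L (rts D) (D.Wm w * B) c ∨ L.ht (rts D) (D.Wm w * B) c
  good : ∀ w c, Fx D w c → Gd c → Ctl p L (rts D) (D.Wm w * B) c ∨ LF (rts D) D.Mx (D.Wm w) c

/-- the labels `ht` do not occur in height zero -/
def Ht (L : LS) (B : Mat D.R) : Prop := ∀ M, IsPModular 2 M → ∀ (f : Fr D) χ, IsIrrCharacter _ χ →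
  ∀ w c, Has f χ w c → L.ht (rts D) (D.Wm w * B) c → ¬ H0 M χ

variable (p) in
def OK (L : LS) : Prop := AllD p fun D => ∀ j B, St D j B → L.adm (rts D) B → OKat D L B

variable (p) in
/-- **what a family has to prove** -/
structure Fm (L : LS) : Prop where
  ok : OK p L
  b1 : AllD p fun D => ∀ j B, St D j B → L.adm (rts D) B → Ex (rts D) ∨ B1 D L B
  tri : AllD p fun D => ∀ j B, St D j B → L.adm (rts D) B → Tri D L B
  ht : AllD p fun D => ∀ j B, St D j B → L.adm (rts D) B → Ht D L B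

variable (p) in
/-- **the exact system** -/
structure FmX : Prop where
  ok : OK p (exL p)
  b1 : AllD p fun D => ∀ j B, St D j B → Ex (rts D) → Cz p (rts D) → B1 D (exL p) B

variable (p) in
/-- **the result for a family** -/
def Res (L : LS) : Prop :=
  AllD p fun {_ _ _ _ _ _ _ _ _ _ F G} D _ => ∀ j B, St D j B → L.adm (rts D) B → ∀ M, IsPModular 2 M → HH M ↥(GF F G)

/-! ### the boxes -/

/-- the lift to a large level -/
structure Up (f : Fr D) (B : Mat D.R) (n : ℕ) where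
  l : ℕ
  hl : 0 < l
  [fin : Fintype ↥(GF (F ^ l) G)]
  f' : Fr (D.pow hl)
  j' : ℕ
  st : St (D.pow hl) j' B
  e : IrrCharacter ↥(GF F G) → IrrCharacter ↥(GF (F ^ l) G)
  mult : ∀ χ : IrrCharacter ↥(GF F G), ∃ ε : ℂ, (ε = 1 ∨ ε = -1) ∧
    ∀ w c, classInner (e χ : GF (F ^ l) G → ℂ) (RW f' w c) = ε * classInner (χ : GF F G → ℂ) (RW f w c)
  gal : ∀ (σ : ℂ ≃+* ℂ) (χ : IrrCharacter ↥(GF F G)), Fix σ (e χ : GF (F ^ l) G → ℂ) ↔ Fix σ (χ : GF F G → ℂ)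
  hz : ∀ M, IsPModular 2 M → ∀ χ : IrrCharacter ↥(GF F G), H0 M (χ : GF F G → ℂ) → H0 M (e χ : GF (F ^ l) G → ℂ)
  two : pc 2 (GF (F ^ l) G) = pc 2 (GF F G)
  twoT : ∀ w, (ordT (D.pow hl) w).factorization 2 = (ordT D w).factorization 2
  pr : ∀ w μ, Eig (rts D) (D.Wm w * B) μ → ∃ r, r.Prime ∧ r ≠ p ∧ n < r ∧ Pr (D.pow hl) B r μ ∧
    ∀ χ : IrrCharacter ↥(GF F G), RatR r (e χ : GF (F ^ l) G → ℂ)

def BoxUp : Prop := p ≠ 2 → ∀ j B, St D j B → ∀ (f : Fr D) (n : ℕ), Nonempty (Up D f B n)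

/-- sub-data for `r`-groups and for vectors modulo `r` -/
structure SbP : Prop where
  grp : ∀ r : ℕ, r.Prime → r ≠ p → ¬ r ∣ Nat.card D.W → ∀ P : Subgroup ↥(GF F G), IsPGroup r P →
    ∃ (s : Sb D) (lam : Vec D.R), s.For r P ∧ rts s.E = lev (rts D) lam
  vec : ∀ r : ℕ, r.Prime → r ≠ p → ¬ r ∣ Nat.card D.W → ∀ (w : D.W) (z lam : Vec D.R),
    (∀ i, (r : ℤ) ∣ ((D.Wm w * D.Mx - 1) *ᵥ z) i) → (∀ a ∈ rts D, ((r : ℤ) ∣ a.1 ⬝ᵥ z ↔ a.1 ⬝ᵥ lam = 0)) →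
    ∃ (P : Subgroup ↥(GF F G)) (s : Sb D) (u : s.E.W), s.For r P ∧ rts s.E = lev (rts D) lam ∧ w = s.sw u * s.w ∧
      ∀ y ∈ G, D.Rp w (y⁻¹ * F y) → ∃ g ∈ GF F G, s.K = cj (g * y) (D.T ⊔ D.S {a | D.Rt a ∧ D.wt a ⬝ᵥ lam = 0})

def BoxSb : Prop := D.QS → SbP D

/-- the restriction and the Deligne-Lusztig characters -/
structure Chf : Prop where
  adj : ∀ (f : Fr D) r [Fact r.Prime] P (s : Sb D) [Fintype ↥(GF F s.K)], r ≠ p → s.For r P → ∀ B φ, Sm r B φ →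
    bd (nb D) B < r → ∀ u c, classInner (s.rs r P φ) (RW (s.fr f) u c) = classInner φ (RW f (s.sw u * s.w) c)
  sm : ∀ (f : Fr D) r [Fact r.Prime], r ≠ p → ∀ w c, ¬ r ∣ orderOf c → Sm r (Nat.card D.W) (RW f w c)
  lab : ∀ (f : Fr D) r [Fact r.Prime] B φ, Sm r B φ → B * Nat.card D.W + 1 < r → ∀ χ, IsIrrCharacter _ χ →
    classInner φ χ ≠ 0 → ∀ w c, Has f χ w c → ¬ r ∣ orderOf c
  res : ∀ (f : Fr D) r [Fact r.Prime] P (s : Sb D) [Fintype ↥(GF F s.K)], r ≠ p → s.For r P →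
    bd (nb D) (Nat.card D.W) < r → ∀ w c, ¬ r ∣ orderOf c → ∀ g, s.rs r P (RW f w c) g = (Nat.card s.E.W : ℂ)⁻¹ *
      ∑ᶠ (v : D.W) (u : s.E.W) (c' : Lbl D) (_ : Tc D v w (s.sw u * s.w) ∧ Rel D v c c'), RW (s.fr f) u c' g

def BoxChf : Prop := D.QS → Chf D

/-- consequences of a correspondence -/
def BoxDeg : Prop := D.QS → ∀ (f : Fr D) r [Fact r.Prime] P (s : Sb D) [Fintype ↥(GF F s.K)], Hu D r → s.For r P →
  ∀ χ ε η, IsIrrCharacter _ χ → RatR r χ → IsIrrCharacter _ η → Cor s r P χ ε η →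
    (∀ w c, classInner χ (RW f w c) = ε * (Nat.card s.E.W : ℂ)⁻¹ * ∑ᶠ (v : D.W) (u : s.E.W) (c' : Lbl D)
      (_ : Tc D v w (s.sw u * s.w) ∧ Rel D v c c'), classInner η (RW (s.fr f) u c')) ∧
    (∀ w c, Has f χ w c → ∃ v u c', Tc D v w (s.sw u * s.w) ∧ Rel D v c c' ∧ Has (s.fr f) η u c') ∧
      χ 1 * pc' p (GF F s.K) = pc' p (GF F G) * η 1

/-- blocks for the prime `r` -/
def BoxBR : Prop := D.QS → ∀ (f : Fr D) r [Fact r.Prime] P (s : Sb D) [Fintype ↥(GF F s.K)], r ≠ p → s.For r P →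
  ∀ B φ, Sm r B φ → bd (nb D) (B + Nat.card D.W) < r → ∀ M, IsPModular r M → ∀ ψ, IsIrrCharacter _ ψ →
    classInner (s.rs r P φ) ψ ≠ 0 → ∃ χ, IsIrrCharacter _ χ ∧ classInner φ χ ≠ 0 ∧ ∀ Λ : Set (Lbl D),
      (∀ v c c', Rel D v c c' → c ∈ Λ → c' ∈ Λ) → MemLocalIdeal M (aL f Λ χ - aL (s.fr f) Λ ψ)

/-- the isometry -/
def BoxIso : Prop := ∀ L : LS, OK p L → ∀ j B, St D j B → L.adm (rts D) B → OneLt p L (nr D) →
  ∀ (f : Fr D) r [Fact r.Prime] P (s : Sb D) [Fintype ↥(GF F s.K)], Hu D r → s.For r P →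
  ∀ lam, rts s.E = lev (rts D) lam → lev (rts D) lam ≠ rts D → ∀ χ, IsIrrCharacter _ χ → RatR r χ →
  ∀ u c, Has f χ (s.sw u * s.w) c → Ct p L (rts D) lam c →
    ∃ ε η, IsIrrCharacter _ η ∧ Cor s r P χ ε η ∧ ∀ u' c', Has (s.fr f) η u' c' → L.rel (rts s.E) c c'

/-- a fixed constituent of height zero -/
def BoxHz : Prop := p ≠ 2 → D.QS → ∀ r [Fact r.Prime] P (s : Sb D) [Fintype ↥(GF F s.K)], Hu D r → s.For r P →
  ∀ χ ε η, IsIrrCharacter _ χ → RatR r χ → IsIrrCharacter _ η → Cor s r P χ ε η → ∀ M, IsPModular 2 M → H0 M χ →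
  ∀ σ, Two σ → Fix σ χ → ∃ ψ, IsIrrCharacter _ ψ ∧ classInner (s.rs r P χ) ψ ≠ 0 ∧ H0 M ψ ∧ Fix σ ψ

/-- the values at `2`-singular elements -/
def BoxTau : Prop := p ≠ 2 → ∀ j B, St D j B → ∀ (f : Fr D) χ, IsIrrCharacter _ χ →
  (∀ w μ, Eig (rts D) (D.Wm w * B) μ → ∃ r, Hu D r ∧ Pr D B r μ ∧ RatR r χ) →
  ∀ w c, Has f χ w c → LF (rts D) D.Mx (D.Wm w) c → ∀ τ, Two τ → τ Complex.I = Complex.I →
  (∀ r P (s : Sb D) lam, Hu D r → RatR r χ → s.For r P → rts s.E = lev (rts D) lam → lev (rts D) lam ≠ rts D →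
    Fix τ (s.rs r P χ)) → Fix τ χ

/-- restriction to a factor -/
def BoxCr : Prop := ∀ j B, St D j B → ExLt p (nr D) → ∀ (f : Fr D) χ, IsIrrCharacter _ χ → Cr B f χ

/-- a regular embedding -/
structure Reg (f : Fr D) (j : ℕ) (B : Mat D.R) : Type 1 where
  Y' : Type
  [gY : Group Y']
  N' : Type
  [fN : Fintype N']
  [dN : DecidableEq N']
  ρ' : Y' →* GL N' k
  F' : MulAut Y'
  G' : Subgroup Y'
  D' : Datum p ρ' F' G'
  [fin : Fintype ↥(GF F' G')]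
  f' : Fr D'
  B' : Mat D'.R
  st : St D' j B'
  cz : CZ D'
  J : Matrix D'.R D.R ℤ
  hB : B' * J = J * B
  ω : D.W ≃* D'.W
  hω : ∀ w, D'.Wm (ω w) * J = J * D.Wm w
  e : rts D ≃ rts D'
  e₁ : ∀ a, (e a).1.1 ᵥ* J = a.1.1
  e₂ : ∀ a, (e a).1.2 = J *ᵥ a.1.2
  ι : ↥(GF F G) →* ↥(GF F' G')
  inj : Function.Injective ι
  comm : commutator ↥(GF F' G') ≤ ι.range
  res : ∀ w c', Fx D' (ω w) c' → ∀ g, RW f' (ω w) c' (ι g) = RW f w (pl J c') g
  lift : ∀ w c, Fx D w c → ∃ c', Fx D' (ω w) c' ∧ pl J c' = c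
  lin : ∀ lam : ↥(GF F' G') →* ℂˣ, (∀ g, lam (ι g) = 1) → ∃ cl : Lbl D', (∀ u, Rel D' u cl cl) ∧ (∀ w, Fx D' w cl) ∧
    pl J cl = 1 ∧ (cl = 1 → lam = 1) ∧ ∀ w c g, RW f' w (c * cl) g = lam g * RW f' w c g

def BoxReg : Prop := ∀ j B, St D j B → ∀ f : Fr D, Nonempty (Reg D f j B)

variable (p) in
/-- the generic boxes -/
structure Tools : Prop where
  up : AllD p fun D => BoxUp D
  sb : AllD p fun D => BoxSb D
  chf : AllD p fun D => BoxChf D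
  deg : AllD p fun D => BoxDeg D
  br : AllD p fun D => BoxBR D
  iso : AllD p fun D => BoxIso D
  hz : AllD p fun D => BoxHz D
  tau : AllD p fun D => BoxTau D
  cr : AllD p fun D => BoxCr D
  reg : AllD p fun D => BoxReg D

end Cfsg.Agent.HZ.L
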