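import Cfsg.Agent.HZ.L.Bas
import Cfsg.Agent.HZ.Gen.Oth
import Cfsg.Agent.Blocks.ExistsModular

/-!
# HZ/L: the inductions (helper66)

`Tools p`, `FmX p` and `Fm p L` give `Res p L`.
-/

set_option autoImplicit false
set_option linter.unusedSectionVars false

namespace Cfsg.Agent.HZ.L

open Cfsg Cfsg.Agent.DL Cfsg.Agent.DL.PP Cfsg.Agent.DL.Uni Cfsg.Agent.DL.Asm Cfsg.Agent.Nodes.Reps Matrix
  Cfsg.Agent.KZ.Lie Cfsg.Agent.HZ.Gen Cfsg.Agent.ODD.Red Cfsg.Agent.Characters.Core Cfsg.Agent.Blocks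
  Cfsg.Agent.OddOrderCharacters.VChar Cfsg.Agent.Characters

section Chr

variable {H : Type*} [Group H] [Fintype H] {φ η : H → ℂ}

theorem exists_common (hφ : IsClassFunction H φ) (h : classInner φ η ≠ 0) :
    ∃ ψ, IsIrrCharacter H ψ ∧ classInner φ ψ ≠ 0 ∧ classInner ψ η ≠ 0 := by
  have := finite_irr (G := H)
  have := Fintype.ofFinite (IrrCharacter H)
  by_contra h1
  apply h
  rw [classFunction_eq_sum hφ, classInner_sum_left]
  refine Finset.sum_eq_zero fun ψ _ => ?_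
  rw [classInner_smul_left]
  by_contra h2
  exact h1 ⟨ψ, ψ.2, left_ne_zero_of_mul h2, right_ne_zero_of_mul h2⟩

theorem eq_of_ne (hφ : IsIrrCharacter H φ) (hη : IsIrrCharacter H η) (h : classInner φ η ≠ 0) : φ = η :=
  by_contra fun e => h (classInner_irr_ne hφ hη e)

theorem fix_of_const (hφ : IsGeneralizedCharacter H φ) {τ : ℂ ≃+* ℂ}
    (h : ∀ ψ, IsIrrCharacter H ψ → classInner φ ψ ≠ 0 → Fix τ ψ) : Fix τ φ := fun g => by
  have := finite_irr (G := H)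
  have := Fintype.ofFinite (IrrCharacter H)
  have h1 := congrFun (gen_eq_sum hφ) g
  rw [h1, Finset.sum_apply, map_sum]
  refine Finset.sum_congr rfl fun ψ _ => ?_
  by_cases h2 : classInner φ (ψ : H → ℂ) = 0
  · simp [h2]
  · obtain ⟨n, hn⟩ := gen_inner hφ (Uni.gen_of_irr ψ.2)
    rw [Pi.smul_apply, smul_eq_mul, map_mul, h ψ ψ.2 h2 g, hn, map_intCast]

end Chr

variable {p : ℕ} [Fact p.Prime] {k : Type} [Field k] [CharP k p] [IsAlgClosed k] {Y : Type} [Group Y] {N : Type}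
  [Fintype N] [DecidableEq N] {ρ : Y →* GL N k} {F : MulAut Y} {G : Subgroup Y} {D : Datum p ρ F G}
  [Fintype ↥(GF F G)] {j : ℕ} {B : Mat D.R} {w : D.W} {c c' : Lbl D} {lam : Vec D.R} {L : LS} {f : Fr D}
  {χ : ↥(GF F G) → ℂ} {r : ℕ} {P : Subgroup ↥(GF F G)} {s : Sb D}

variable (D B χ) in
/-- there are huge primes for all eigenvalues -/
def Rich : Prop := ∀ w μ, Eig (rts D) (D.Wm w * B) μ → ∃ r, Hu D r ∧ Pr D B r μ ∧ RatR r χ

/-- the lift of a character -/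
theorem exists_rich (T : Tools p) (hp : p ≠ 2) (h : St D j B) (f : Fr D) (hχ : IsIrrCharacter _ χ) :
    ∃ (l : ℕ) (hl : 0 < l) (_ : Fintype ↥(GF (F ^ l) G)) (f' : Fr (D.pow hl)) (j' : ℕ) (χ' : ↥(GF (F ^ l) G) → ℂ),
      St (D.pow hl) j' B ∧ IsIrrCharacter _ χ' ∧ Rich (D.pow hl) B χ' ∧ (∀ w c, Has f' χ' w c ↔ Has f χ w c) ∧
      (∀ σ, Fix σ χ' ↔ Fix σ χ) ∧ ∀ M, IsPModular 2 M → H0 M χ → H0 M χ' := by
  obtain ⟨U⟩ := T.up D hp j B h f (bd (sz D) (sz D ^ 8))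
  let := U.fin
  refine ⟨U.l, U.hl, U.fin, U.f', U.j', U.e ⟨χ, hχ⟩, U.st, (U.e _).2, fun w μ e => ?_, fun w c => ?_,
    fun σ => U.gal σ ⟨χ, hχ⟩, fun M hM => U.hz M hM ⟨χ, hχ⟩⟩
  · obtain ⟨r, h1, h2, h3, h4, h5⟩ := U.pr w μ e
    refine ⟨r, ⟨h1, h2, ?_⟩, h4, h5 _⟩
    rwa [show sz (D.pow U.hl) = sz D from congrArg (2 * nb D * ·) U.two]
  · obtain ⟨ε, h1, h2⟩ := U.mult ⟨χ, hχ⟩
    rw [Has, h2, mul_ne_zero_iff]
    exact and_iff_right (by rcases h1 with rfl | rfl <;> simp)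

theorem exists_sb (T : Tools p) (h : St D j B) (hu : Hu D r) {μ : ℂ} (hP : Pr D B r μ) {y : D.R → ℂ}
    (hy : IsE (D.Wm w * B) μ y) (hl : ∀ a ∈ rts D, (a.1 ⬝ᵥ lam = 0 ↔ ev a.1 y = 0)) :
    ∃ (P : Subgroup ↥(GF F G)) (s : Sb D) (u : s.E.W), s.For r P ∧ rts s.E = lev (rts D) lam ∧ w = s.sw u * s.w := by
  obtain ⟨z, h1, h2⟩ := hP w y hy
  obtain ⟨P, s, u, h3, h4, h5, -⟩ := (T.sb D h.qs).vec r hu.prime hu.ne hu.not_dvd w z lam h1
    fun a ha => (h2 a ha).trans (hl a ha).symm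
  exact ⟨P, s, u, h3, h4, h5⟩

theorem OKat.adm_sub (o : OKat D L B) (h : St D j B) (hq : s.E.QS) (e : rts s.E = lev (rts D) lam) :
    L.adm (rts s.E) (D.Wm s.w * B) := e ▸ o.adm s.w lam (e ▸ h.nm_sub hq)

theorem OKat.mon_sub (o : OKat D L B) (h : St D j B) (hq : s.E.QS) (e : rts s.E = lev (rts D) lam)
    (hc : L.rel (rts s.E) c c') : L.rel (rts D) c c' := o.mon s.w lam (e ▸ h.nm_sub hq) c c' (e ▸ hc)

theorem OKat.refl (o : OKat D L B) (c : Lbl D) : L.rel (rts D) c c := o.cj 1 c c (by rw [rel_iff, D.Wm_one]; exact tl_one c)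

theorem Hu.bd_one (hu : Hu D r) : bd (nb D) 1 < r := hu.bd_nb (i := 0) (by simp) (by simp)

theorem Hu.rs_gen [Fact r.Prime] [Fintype ↥(GF F s.K)] (hu : Hu D r) (hs : s.For r P) (hχ : IsIrrCharacter _ χ)
    (hr : RatR r χ) : IsGeneralizedCharacter _ (s.rs r P χ) :=
  hu.big_GF.rs_gen hs.grp (sm_irr hχ hr) hu.bd_one s.ι_injective hs.range

/-- the congruence for an irreducible character -/
theorem br_irr (T : Tools p) (o : OKat D L B) (h : St D j B) [Fact r.Prime] [Fintype ↥(GF F s.K)] (hu : Hu D r)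
    (hs : s.For r P) (hχ : IsIrrCharacter _ χ) (hr : RatR r χ) {M : Ideal AlgInt} (hM : IsPModular r M)
    {ψ : ↥(GF F s.K) → ℂ} (hψ : IsIrrCharacter _ ψ) (hi : classInner (s.rs r P χ) ψ ≠ 0) (f : Fr D) (c : Lbl D) :
    MemLocalIdeal M (aL f {x | L.rel (rts D) c x} χ - aL (s.fr f) {x | L.rel (rts D) c x} ψ) := by
  obtain ⟨χ', h1, h2, h3⟩ := T.br D h.qs f r P s hu.ne hs 1 χ (sm_irr hχ hr) (hu.bd_nb (i := 2) (by
    have := hu.card_le
    have := two_le_sz D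
    nlinarith) (by norm_num)) M hM ψ hψ hi
  rw [eq_of_ne hχ h1 h2]
  exact h3 _ fun v x y e hx => o.trans _ _ _ hx (o.cj v x y e)

/-- a constituent of the restriction has a related label -/
theorem br_lab (T : Tools p) (o : OKat D L B) (h : St D j B) (h1 : One D L) [Fact r.Prime] [Fintype ↥(GF F s.K)]
    (hu : Hu D r) (hs : s.For r P) (hχ : IsIrrCharacter _ χ) (hr : RatR r χ) {ψ : ↥(GF F s.K) → ℂ}
    (hψ : IsIrrCharacter _ ψ) (hi : classInner (s.rs r P χ) ψ ≠ 0) (hc : Has f χ w c) :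
    ∃ u c', Has (s.fr f) ψ u c' ∧ L.rel (rts D) c c' := by
  obtain ⟨M, hM⟩ := ExistsModular.exists_isPModular hu.prime
  have h2 := br_irr T o h hu hs hχ hr hM hψ hi f c
  by_contra h3
  rw [aL_eq_one (Λ := {x | L.rel (rts D) c x}) hχ fun w' c' e => h1 f χ hχ w c w' c' hc e,
    aL_eq_zero (D := s.E) (Λ := {x | L.rel (rts D) c x}) fun u c' e e' => h3 ⟨u, c', e, e'⟩, sub_zero] at h2
  exact LocalRing.not_memLocalIdeal_one hM h2

open Classical in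
theorem br_eig (T : Tools p) (ok : OK p L) (h : St D j B) (ha : L.adm (rts D) B) (ih : OneLt p L (nr D)) (hu : Hu D r)
    {μ : ℂ} (hP : Pr D B r μ) (hχ : IsIrrCharacter _ χ) (hr : RatR r χ) {M : Ideal AlgInt} (hM : IsPModular r M)
    (hc : Has f χ w c) (he : Eig (rts D) (D.Wm w * B) μ) (c₀ : Lbl D) :
    MemLocalIdeal M (aL f {x | L.rel (rts D) c₀ x} χ - if L.rel (rts D) c₀ c then 1 else 0) := by
  have o := ok D j B h ha
  have := Fact.mk hu.prime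
  obtain ⟨y, hy, a, ha', h1⟩ := he
  obtain ⟨lam, h2⟩ := exists_pat y
  obtain ⟨P, s, u, hs, h3, rfl⟩ := exists_sb T h hu hP hy h2
  have := D.amb.finite_GF s.K
  have := Fintype.ofFinite ↥(GF F s.K)
  have h4 : rts s.E ≠ rts D := h3 ▸ lev_ne.2 fun e => h1 ((h2 a ha').1 (e a ha'))
  obtain ⟨ψ, hψ, h5, h6⟩ := exists_common (gen_isClassFunction (hu.rs_gen hs hχ hr)) (η := RW (s.fr f) u c) (by
    rw [(T.chf D h.qs).adj f r P s hu.ne hs 1 χ (sm_irr hχ hr) hu.bd_one]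
    exact hc)
  have h7 : ∀ u' c', Has (s.fr f) ψ u' c' → L.rel (rts D) c c' := fun u' c' e => o.mon_sub h hs.qs h3
    (ih s.E j _ (h.sub hs.qs) (o.adm_sub h hs.qs h3) (s.nr_lt h4) _ ψ hψ u c u' c' h6 e)
  have h8 := br_irr T o h hu hs hχ hr hM hψ h5 f c₀
  split_ifs with h9
  · exact aL_eq_one (D := s.E) (Λ := {x | L.rel (rts D) c₀ x}) hψ (fun u' c' e => o.trans _ _ _ h9 (h7 u' c' e)) ▸ h8
  · exact aL_eq_zero (D := s.E) (Λ := {x | L.rel (rts D) c₀ x})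
      (fun u' c' e e' => h9 (o.trans _ _ _ e' (o.symm _ _ (h7 u' c' e)))) ▸ h8

theorem link_rich (T : Tools p) (ok : OK p L) (h : St D j B) (ha : L.adm (rts D) B) (ih : OneLt p L (nr D))
    (hχ : IsIrrCharacter _ χ) (hR : Rich D B χ) : Link L B f χ := fun w c w' c' μ hc hc' he he' => by
  obtain ⟨r, hu, hP, hr⟩ := hR w μ he
  obtain ⟨M, hM⟩ := ExistsModular.exists_isPModular hu.prime
  have h1 := br_eig T ok h ha ih hu hP hχ hr hM hc he c
  have h2 := br_eig T ok h ha ih hu hP hχ hr hM hc' he' c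
  by_contra h3
  rw [if_pos ((ok D j B h ha).refl c)] at h1
  rw [if_neg h3] at h2
  exact LocalRing.not_memLocalIdeal_one hM (by simpa using LocalRing.memLocalIdeal_sub hM h2 h1)

/-- a controlled label gives a correspondence -/
theorem exists_cor (T : Tools p) (ok : OK p L) (h : St D j B) (ha : L.adm (rts D) B) (ih : OneLt p L (nr D))
    (hχ : IsIrrCharacter _ χ) (hR : Rich D B χ) (hc : Has f χ w c) (hC : Ctl p L (rts D) (D.Wm w * B) c) :
    ∃ (r : ℕ) (_ : Fact r.Prime) (P : Subgroup ↥(GF F G)) (s : Sb D) (_ : Fintype ↥(GF F s.K)) (lam : Vec D.R) (ε : ℂ)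
      (η : ↥(GF F s.K) → ℂ), Hu D r ∧ RatR r χ ∧ s.For r P ∧ rts s.E = lev (rts D) lam ∧ nr s.E < nr D ∧
        IsIrrCharacter _ η ∧ Cor s r P χ ε η ∧ ∀ u' c', Has (s.fr f) η u' c' → L.rel (rts D) c c' := by
  obtain ⟨lam₀, h1, h2, h3⟩ := hC
  obtain ⟨μ, y, lam, h4, h5, h6, h7, h8⟩ := h.exists_eig h2 subset_rfl h1
  obtain ⟨r, hu, hP, hr⟩ := hR w μ h5
  have := Fact.mk hu.prime
  obtain ⟨P, s, u, hs, h9, rfl⟩ := exists_sb T h hu hP h4 h6
  have := D.amb.finite_GF s.K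
  have := Fintype.ofFinite ↥(GF F s.K)
  obtain ⟨ε, η, hη, h10, h11⟩ := T.iso D L ok j B h ha ih f r P s hu hs lam h9 h8 χ hχ hr u c hc (h3 lam h7 h8)
  exact ⟨r, inferInstance, P, s, inferInstance, lam, ε, η, hu, hr, hs, h9, s.nr_lt (h9 ▸ h8), hη, h10,
    fun u' c' e => (ok D j B h ha).mon_sub h hs.qs h9 (h11 u' c' e)⟩

/-- **the step** -/
theorem one_step (T : Tools p) (hp : p ≠ 2) (ok : OK p L) (h : St D j B) (ha : L.adm (rts D) B) (ih : OneLt p L (nr D))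
    (hx : ExLt p (nr D)) (hb : B1 D L B) : One D L := fun f χ hχ => by
  obtain ⟨l, hl, _, f', j', χ', h', hχ', hR, e, -⟩ := exists_rich T hp h f hχ
  have o := ok D j B h ha
  by_cases hC : ∃ w c, Has f χ w c ∧ Ctl p L (rts D) (D.Wm w * B) c
  · obtain ⟨w, c, hc, hC⟩ := hC
    obtain ⟨r, _, P, s, _, lam, ε, η, hu, hr, hs, -, -, hη, h1, h2⟩ :=
      exists_cor (D := D.pow hl) T ok h' ha ih hχ' hR ((e w c).2 hc) hC
    have h3 : ∀ w' c', Has f χ w' c' → L.rel (rts D) c c' := fun w' c' hc' => by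
      obtain ⟨v, u, c'', -, h4, h5⟩ := (T.deg (D.pow hl) h'.qs f' r P s hu hs χ' ε η hχ' hr hη h1).2.1 w' c' ((e w' c').2 hc')
      exact o.trans _ _ _ (h2 u c'' h5) (o.symm _ _ (o.cj v c' c'' h4))
    exact fun w₁ c₁ w₂ c₂ h4 h5 => o.trans _ _ _ (o.symm _ _ (h3 _ _ h4)) (h3 _ _ h5)
  · exact hb f χ hχ (fun w c w' c' μ h1 h2 => link_rich (D := D.pow hl) T ok h' ha ih hχ' hR w c w' c' μ ((e _ _).2 h1)
      ((e _ _).2 h2)) (T.cr D j B h hx f χ hχ) fun w c h1 h2 => hC ⟨w, c, h1, h2⟩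

attribute [local instance] Reg.gY Reg.fN Reg.dN Reg.fin

variable (p) in
/-- the transfer along a regular embedding -/
def RT : Prop := AllD p fun D => ∀ f j B (R : Reg D f j B), nr R.D' = nr D ∧ (Ex (rts D) → Ex (rts R.D')) ∧
  Cz p (rts R.D') ∧ (One R.D' (exL p) → ∀ χ, IsIrrCharacter _ χ → ∀ w c w' c', Has f χ w c → Has f χ w' c' → Cj (rts D) c c')

theorem exLt_of (T : Tools p) (hp : p ≠ 2) (hR : RT p) (hX : FmX p) (n : ℕ) : ExLt p n := by
  induction n with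
  | zero => exact fun D _ _ _ _ _ h => absurd h (Nat.not_lt_zero _)
  | succ n ih =>
    intro k _ _ _ Y _ N _ _ ρ F G D _ j B h hE hn f χ hχ
    obtain ⟨R⟩ := T.reg D j B h f
    obtain ⟨h1, h2, h3, h4⟩ := hR D f j B R
    have h5 : nr R.D' ≤ n := h1 ▸ Nat.lt_succ_iff.1 hn
    exact h4 (one_step T hp hX.ok R.st ⟨h2 hE, h3⟩ (fun E _ j B a b c => ih E j B a b.1 (c.trans_le h5))
      (fun E _ j B a b c => ih E j B a b (c.trans_le h5)) (hX.b1 _ _ _ R.st (h2 hE) h3)) χ hχ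

/-- **exact types** -/
theorem exAll_of (T : Tools p) (hp : p ≠ 2) (hR : RT p) (hX : FmX p) : ExAll p :=
  fun D _ j B h hE => exLt_of T hp hR hX _ D j B h hE (Nat.lt_succ_self _)

theorem oneLt_of (T : Tools p) (hp : p ≠ 2) (hE : ExAll p) (ok : OK p L)
    (b1 : AllD p fun D => ∀ j B, St D j B → L.adm (rts D) B → Ex (rts D) ∨ B1 D L B) (n : ℕ) : OneLt p L n := by
  induction n with
  | zero => exact fun D _ _ _ _ _ h => absurd h (Nat.not_lt_zero _)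
  | succ n ih =>
    intro k _ _ _ Y _ N _ _ ρ F G D _ j B h ha hn
    rcases b1 D j B h ha with h1 | h1
    · intro f χ hχ w c w' c' h2 h3
      obtain ⟨v, h4⟩ := cj_iff.1 (hE D j B h h1 f χ hχ w c w' c' h2 h3)
      exact (ok D j B h ha).cj v c c' h4
    · exact one_step T hp ok h ha (fun E _ j B a b c => ih E j B a b (c.trans_le (Nat.lt_succ_iff.1 hn)))
        (fun E _ j B a b _ => hE E j B a b) h1

theorem Fm.oneLt (T : Tools p) (hp : p ≠ 2) (hE : ExAll p) (h : Fm p L) (n : ℕ) : OneLt p L n :=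
  oneLt_of T hp hE h.ok h.b1 n

theorem Fm.one (T : Tools p) (hp : p ≠ 2) (hE : ExAll p) (hF : Fm p L) (h : St D j B) (ha : L.adm (rts D) B) : One D L :=
  hF.oneLt T hp hE _ D j B h ha (Nat.lt_succ_self _)

/-- **P**: the labels of a fixed character of height zero are good -/
theorem gd_of (T : Tools p) (hp : p ≠ 2) (hE : ExAll p) (hF : Fm p L) {M : Ideal AlgInt} (hM : IsPModular 2 M)
    {σ : ℂ ≃+* ℂ} (hσ : Sg σ) (n : ℕ) : AllD p fun D => ∀ j B, St D j B → L.adm (rts D) B → nr D < n →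
      ∀ (f : Fr D) χ, IsIrrCharacter _ χ → H0 M χ → Fix σ χ → ∀ w c, Has f χ w c → Gd c := by
  induction n with
  | zero => exact fun D _ _ _ _ _ h => absurd h (Nat.not_lt_zero _)
  | succ n ih =>
    intro k _ _ _ Y _ N _ _ ρ F G D _ j B h ha hn f χ hχ h0 hf w c hc
    by_contra hg
    rcases (hF.tri D j B h ha).bad w c hc.fx hg σ hσ (hF.one T hp hE h ha f χ hχ w c w _ hc (hc.gal hχ hf)) with hC | hC
    · obtain ⟨l, hl, _, f', j', χ', h', hχ', hR, e, e1, e2⟩ := exists_rich T hp h f hχ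
      have o := hF.ok (D.pow hl) j' B h' ha
      obtain ⟨r, _, P, s, _, lam, ε, η, hu, hr, hs, h1, h2, hη, h3, -⟩ :=
        exists_cor (D := D.pow hl) T hF.ok h' ha (hF.oneLt T hp hE _) hχ' hR ((e w c).2 hc) hC
      obtain ⟨ψ, hψ, h4, h5, h6⟩ := T.hz (D.pow hl) hp h'.qs r P s hu hs χ' ε η hχ' hr hη h3 M hM (e2 M hM h0) σ hσ.1 ((e1 σ).2 hf)
      obtain ⟨u, c', h7, h8⟩ := br_lab T o h' (hF.one T hp hE h' ha) hu hs hχ' hr hψ h4 ((e w c).2 hc)
      exact hg ((hF.tri D j B h ha).hom c' c (o.symm _ _ h8) h7.fo hc.fo (ih s.E j' _ (h'.sub hs.qs) (o.adm_sub h' hs.qs h1)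
        (h2.trans_le (Nat.lt_succ_iff.1 hn)) _ ψ hψ h5 h6 u c' h7))
    · exact hF.ht D j B h ha M hM f χ hχ w c hc hC h0

theorem Cor.fix [Fintype ↥(GF F s.K)] {ε : ℂ} {η : ↥(GF F s.K) → ℂ} (h : Cor s r P χ ε η) (hχ : IsIrrCharacter _ χ)
    (hr : RatR r χ) (hη : IsIrrCharacter _ η) {τ : ℂ ≃+* ℂ} (hτ : Fix τ η) : Fix τ χ := by
  have h1 : 1 ≤ sz D ^ 2 := Nat.one_le_pow _ _ (two_pos.trans_le (two_le_sz D))
  have h2 := h.2 χ ((sm_irr hχ hr).mono h1)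
  have h3 := h.2 _ ((sm_irr (GaloisIrr.isIrr_map τ hχ) (hr.map τ)).mono h1)
  have h4 := GaloisIrr.classInner_map τ (χ := s.rs r P χ) (isIrr_isCharacter hη)
  rw [show (fun g => τ (η g)) = η from funext hτ] at h4
  rw [classInner_irr_self hχ] at h2
  refine congrFun (eq_of_ne (GaloisIrr.isIrr_map τ hχ) hχ ?_)
  rw [h3]
  exact mul_ne_zero (left_ne_zero_of_mul_eq_one h2.symm)
    (h4.trans_ne ((map_ne_zero τ).2 (right_ne_zero_of_mul_eq_one h2.symm)))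

/-- **TAU**: characters with good labels are fixed by the automorphisms which fix `i` and the odd roots of unity -/
theorem fix_of (T : Tools p) (hp : p ≠ 2) (hE : ExAll p) (hF : Fm p L) {τ : ℂ ≃+* ℂ} (hτ : Two τ)
    (hI : τ Complex.I = Complex.I) (n : ℕ) : AllD p fun D => ∀ j B, St D j B → L.adm (rts D) B → nr D < n →
      ∀ (f : Fr D) χ, IsIrrCharacter _ χ → ∀ w c, Has f χ w c → Gd c → Fix τ χ := by
  induction n with
  | zero => exact fun D _ _ _ _ _ h => absurd h (Nat.not_lt_zero _)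
  | succ n ih =>
    intro k _ _ _ Y _ N _ _ ρ F G D _ j B h ha hn f χ hχ w c hc hg
    obtain ⟨l, hl, _, f', j', χ', h', hχ', hR, e, e1, -⟩ := exists_rich T hp h f hχ
    have o := hF.ok (D.pow hl) j' B h' ha
    have t := hF.tri (D.pow hl) j' B h' ha
    have hc' := (e w c).2 hc
    refine (e1 τ).1 ?_
    rcases t.good w c hc'.fx hg with hC | hC
    · obtain ⟨r, _, P, s, _, lam, ε, η, hu, hr, hs, h1, h2, hη, h3, h4⟩ :=
        exists_cor (D := D.pow hl) T hF.ok h' ha (hF.oneLt T hp hE _) hχ' hR hc' hC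
      obtain ⟨u, c', h5⟩ := exists_has (s.fr f') hη
      exact h3.fix hχ' hr hη (ih s.E j' _ (h'.sub hs.qs) (o.adm_sub h' hs.qs h1) (h2.trans_le (Nat.lt_succ_iff.1 hn)) _ η hη
        u c' h5 (t.hom c c' (h4 u c' h5) hc.fo h5.fo hg))
    · refine T.tau (D.pow hl) hp j' B h' f' χ' hχ' hR w c hc' hC τ hτ hI fun r P s lam hu hr hs h1 h2 => ?_
      have := Fact.mk hu.prime
      have := (D.pow hl).amb.finite_GF s.K
      have := Fintype.ofFinite ↥(GF (F ^ l) s.K)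
      refine fix_of_const (hu.rs_gen hs hχ' hr) fun ψ hψ h3 => ?_
      obtain ⟨u, c', h4, h5⟩ := br_lab T o h' (hF.one T hp hE h' ha) hu hs hχ' hr hψ h3 hc'
      exact ih s.E j' _ (h'.sub hs.qs) (o.adm_sub h' hs.qs h1) ((s.nr_lt (h1 ▸ h2)).trans_le (Nat.lt_succ_iff.1 hn)) _ ψ hψ
        u c' h4 (t.hom c c' h5 hc.fo h4.fo hg)

/-- **the result for a family** -/
theorem res_of (T : Tools p) (hp : p ≠ 2) (hE : ExAll p) (hF : Fm p L) : Res p L :=
  fun D _ j B h ha M hM χ hχ h0 σ hσ hf => rat2_of_fixI hσ hf fun τ hτ hI => by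
    obtain ⟨f⟩ := nonempty_fr D
    obtain ⟨w, c, hc⟩ := exists_has f hχ
    exact fix_of T hp hE hF hτ hI _ D j B h ha (Nat.lt_succ_self _) f χ hχ w c hc
      (gd_of T hp hE hF hM hσ _ D j B h ha (Nat.lt_succ_self _) f χ hχ h0 hf w c hc)

end Cfsg.Agent.HZ.L
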