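import Cfsg.Agent.HZ.L.Defs

/-!
# HZ/L: the dictionary between data and the combinatorial layer (helper66)
-/

set_option autoImplicit false
set_option linter.unusedSectionVars false

namespace Cfsg.Agent.HZ.L

open Cfsg Cfsg.Agent.DL Cfsg.Agent.DL.PP Cfsg.Agent.DL.Uni Cfsg.Agent.DL.Asm Cfsg.Agent.Nodes.Reps Matrix
  Cfsg.Agent.KZ.Lie Cfsg.Agent.HZ.Gen Cfsg.Agent.ODD.Red Cfsg.Agent.Characters.Core

section Comb

variable {R R' : Type} [Fintype R] [DecidableEq R] [Fintype R'] [DecidableEq R'] {Ψ Ψ' : RS R} {A A' : Mat R}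
  {c c' c'' : Lb R} {p : ℕ}

theorem lev_sub (Ψ : RS R) (lam : Vec R) : lev Ψ lam ⊆ Ψ := fun _ h => h.1

theorem lev_zero (Ψ : RS R) : lev Ψ 0 = Ψ := Set.ext fun _ => ⟨fun h => h.1, fun h => ⟨h, dotProduct_zero _⟩⟩

theorem lev_ne {lam : Vec R} : lev Ψ lam ≠ Ψ ↔ ¬ Perp Ψ lam :=
  not_congr ⟨fun h a ha => (h.ge ha).2, fun h => Set.ext fun a => ⟨fun e => e.1, fun e => ⟨e, h a e⟩⟩⟩

theorem WW_mono (h : Ψ ⊆ Ψ') : WW Ψ ≤ WW Ψ' := Submonoid.closure_mono (Set.image_mono h)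

theorem rfm_mem {a : Vec R × Vec R} (h : a ∈ Ψ) : rfm a ∈ WW Ψ := Submonoid.subset_closure ⟨a, h, rfl⟩

theorem tl_one (c : Lb R) : Tl 1 c c := fun v => by rw [one_mulVec]

theorem Tl.trans (h : Tl A c c') (h' : Tl A' c' c'') : Tl (A' * A) c c'' := fun v => by rw [← mulVec_mulVec, h', h]

theorem Tl.pow (h : Tl A c c') (n : ℕ) : Tl A (c ^ n) (c' ^ n) := fun v => by rw [map_pow, map_pow, h]

theorem Tl.eq_one (h : Tl A c 1) : c = 1 := funext fun j => by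
  rw [← chr_single j c, ← h, map_one]
  rfl

theorem Cj.refl (Ψ : RS R) (c : Lb R) : Cj Ψ c c := ⟨1, one_mem _, tl_one c⟩

theorem Cj.trans (h : Cj Ψ c c') (h' : Cj Ψ c' c'') : Cj Ψ c c'' :=
  h.elim fun _ h => h'.elim fun _ h' => ⟨_, mul_mem h'.1 h.1, h.2.trans h'.2⟩

theorem Cj.mono (h : Cj Ψ c c') (e : Ψ ⊆ Ψ') : Cj Ψ' c c' := h.imp fun _ h => ⟨WW_mono e h.1, h.2⟩

theorem Perp.fix {v : Vec R} (hv : Perp Ψ v) (hA : A ∈ WW Ψ) : A *ᵥ v = v := by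
  induction hA using Submonoid.closure_induction with
  | mem x hx =>
    obtain ⟨a, ha, rfl⟩ := hx
    rw [rfm, sub_mulVec, one_mulVec, vecMulVec_mulVec, hv a ha]
    simp
  | one => exact one_mulVec v
  | mul x y _ _ hx hy => rw [← mulVec_mulVec, hy, hx]

theorem chr_pl (J : Matrix R' R ℤ) (c : Lb R') (v : Vec R) : chr v (pl J c) = chr (J *ᵥ v) c := by
  simp only [chr_apply, pl, ← Finset.prod_zpow, ← _root_.zpow_mul]
  rw [Finset.prod_comm]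
  refine Finset.prod_congr rfl fun j _ => ?_
  rw [mulVec, dotProduct]
  exact (map_prod (zpowersHom _ (c j)) (fun i => Multiplicative.ofAdd (J j i * v i)) Finset.univ).symm.trans
    (by rw [← ofAdd_sum]; rfl)

theorem chr_gal (σ : ℂ ≃+* ℂ) (c : Lb R) (v : Vec R) : chr v (gal σ c) = Units.map (σ : ℂ →* ℂ) (chr v c) := by
  simp only [chr_apply, gal, map_prod, map_zpow]

theorem Iso.refl (Ψ : RS R) : Iso Ψ Ψ := ⟨Equiv.refl _, fun _ _ => rfl⟩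

theorem Iso.symm {Ψ' : RS R'} (h : Iso Ψ Ψ') : Iso Ψ' Ψ :=
  h.elim fun φ h => ⟨φ.symm, fun a b => by rw [← h, φ.apply_symm_apply, φ.apply_symm_apply]⟩

theorem Iso.trans {R'' : Type} [Fintype R''] {Ψ' : RS R'} {Ψ'' : RS R''} (h : Iso Ψ Ψ') (h' : Iso Ψ' Ψ'') : Iso Ψ Ψ'' :=
  h.elim fun φ h => h'.elim fun ψ h' => ⟨φ.trans ψ, fun a b => (h' _ _).trans (h a b)⟩

theorem Iso.ex {Ψ' : RS R'} (h : Iso Ψ Ψ') (e : Ex Ψ') : Ex Ψ :=
  e.imp fun _ e => e.imp fun _ e => e.imp fun _ e => ⟨h.trans e.1, e.2⟩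

theorem ev_int (a v : Vec R) : ev a (fun i => (v i : ℂ)) = (a ⬝ᵥ v : ℤ) := by simp [ev, dotProduct]

theorem ev_mul (a : Vec R) (A : Mat R) (y : R → ℂ) : ev a (A.map (Int.cast : ℤ → ℂ) *ᵥ y) = ev (a ᵥ* A) y := by
  rw [ev, ev, dotProduct_mulVec]
  congr 1
  funext i
  simp [vecMul, dotProduct]

/-- a stable set of roots in a proper Levi subsystem is killed by an eigenvector which is not central -/
theorem exists_isE {n : ℕ} (hn : 0 < n) (hA : A ^ n = 1) (h : Nm A Ψ') {lam : Vec R} (h1 : Perp Ψ' lam) {a : Vec R}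
    (h2 : a ⬝ᵥ lam ≠ 0) : ∃ μ y, IsE A μ y ∧ (∀ b ∈ Ψ', ev b.1 y = 0) ∧ ev a y ≠ 0 := by
  let φ : Mat R →+* Matrix R R ℂ := (Int.castRingHom ℂ).mapMatrix
  have hφ : ∀ X : Mat R, X.map (Int.cast : ℤ → ℂ) = φ X := fun _ => rfl
  let V : Submodule ℂ (R → ℂ) := ⨅ b ∈ Ψ', LinearMap.ker (dotProductBilin ℂ ℂ fun i => (b.1 i : ℂ))
  have hV : ∀ y, y ∈ V ↔ ∀ b ∈ Ψ', ev b.1 y = 0 := fun y => by
    simp only [V, Submodule.mem_iInf, LinearMap.mem_ker]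
    rfl
  obtain ⟨m, rfl⟩ := Nat.exists_eq_succ_of_ne_zero hn.ne'
  have h3 : ∀ y ∈ V, φ (A ^ m) *ᵥ y ∈ V := fun y hy => (hV _).2 fun b hb => by
    obtain ⟨b', hb', -, e⟩ := h b hb
    rw [← hφ, ev_mul, ← e, vecMul_vecMul, ← pow_succ', hA, vecMul_one]
    exact (hV y).1 hy b' hb'
  have h4 : ∀ i, ∀ y ∈ V, φ ((A ^ m) ^ i) *ᵥ y ∈ V := fun i => by
    induction i with
    | zero => intro y hy; rwa [pow_zero, map_one, one_mulVec]
    | succ i ih => intro y hy; rw [pow_succ, map_mul, ← mulVec_mulVec]; exact ih _ (h3 y hy)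
  have h5 : ∀ y ∈ V, toLin' (φ A) y ∈ V := fun y hy => by
    rcases m with _ | m
    · rw [show A = 1 from (pow_one A).symm.trans hA, map_one, toLin'_one]
      exact hy
    · have e : A = (A ^ (m + 1)) ^ (m + 1) := by
        rw [← pow_mul, show (m + 1) * (m + 1) = (m + 1).succ * m + 1 by simp only [Nat.succ_eq_add_one]; ring, pow_succ, pow_mul,
          hA, one_pow, one_mul]
      rw [toLin'_apply, e]
      exact h4 _ y hy
  let f : Module.End ℂ V := (toLin' (φ A)).restrict h5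
  have h6 : f ^ m.succ = 1 := LinearMap.ext fun y => Subtype.ext (by
    rw [Module.End.pow_restrict, LinearMap.coe_restrict_apply, ← toLin'_pow, ← map_pow, hA, map_one, toLin'_one]
    rfl)
  have h7 : f.IsSemisimple := Module.End.isSemisimple_of_squarefree_aeval_eq_zero (p := Polynomial.X ^ m.succ - 1)
    (Polynomial.separable_X_pow_sub_C (1 : ℂ) (Nat.cast_ne_zero.2 hn.ne') one_ne_zero).squarefree (by simp [h6])
  by_contra h8
  push Not at h8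
  let l : V →ₗ[ℂ] ℂ := (dotProductBilin ℂ ℂ fun i => (a i : ℂ)).comp V.subtype
  have h9 : ⊤ ≤ LinearMap.ker l := by
    rw [← h7.iSup_eigenspace_eq_top]
    exact iSup_le fun μ y hy => h8 μ y (congrArg Subtype.val (Module.End.mem_eigenspace_iff.1 hy)) ((hV _).1 y.2)
  have h10 : ev a (fun i => (lam i : ℂ)) = 0 :=
    h9 (Submodule.mem_top (x := ⟨_, (hV _).2 fun b hb => (ev_int _ lam).trans (by rw [h1 b hb, Int.cast_zero])⟩))
  exact h2 (Int.cast_eq_zero.1 ((ev_int a lam).symm.trans h10))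

end Comb

variable {p : ℕ} [Fact p.Prime] {k : Type} [Field k] [CharP k p] [IsAlgClosed k] {Y : Type} [Group Y] {N : Type}
  [Fintype N] [DecidableEq N] {ρ : Y →* GL N k} {F : MulAut Y} {G : Subgroup Y} {D : Datum p ρ F G}
  {j : ℕ} {B : Mat D.R} {v w : D.W} {c c' : Lbl D} {lam : Vec D.R}

theorem rt_mem {b : D.I → ℤ} (h : D.Rt b) : (D.wt b, D.cor b) ∈ rts D := ⟨b, h, rfl⟩

variable (D) in
theorem rts_eq : rts D = (fun b => (D.wt b, D.cor b)) '' {b | D.Rt b} :=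
  Set.ext fun _ => ⟨fun ⟨b, h, e⟩ => ⟨b, h, e.symm⟩, fun ⟨b, h, e⟩ => ⟨b, h, e.symm⟩⟩

variable (D) in
theorem finite_rts : (rts D).Finite := rts_eq D ▸ D.finite_roots.image _

variable (D) in
theorem nr_eq : nr D = {b | D.Rt b}.ncard := by
  rw [nr, rts_eq, Set.ncard_image_of_injective _ fun a b h => D.wt_injective (congrArg Prod.fst h)]

theorem rfm_eq {b : D.I → ℤ} (h : D.Rt b) : rfm (D.wt b, D.cor b) = D.Wm (D.rf b) := (D.Wm_rf h).symm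

theorem rel_iff : Rel D v c c' ↔ Tl (D.Wm v) c c' := Iff.rfl

theorem fx_iff : Fx D w c ↔ Tl (D.Wm w * D.Mx) c c := Iff.rfl

/-- the Weyl group of a set of roots -/
theorem mem_WW_sub {Ψ : RS D.R} (h : Ψ ⊆ rts D) {A : Mat D.R} : A ∈ WW Ψ ↔
    ∃ w ∈ Subgroup.closure (D.rf '' {b | D.Rt b ∧ (D.wt b, D.cor b) ∈ Ψ}), D.Wm w = A := by
  constructor
  · intro hA
    induction hA using Submonoid.closure_induction with
    | mem x hx =>
      obtain ⟨a, ha, rfl⟩ := hx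
      obtain ⟨b, hb, rfl⟩ := h ha
      exact ⟨_, Subgroup.subset_closure ⟨b, ⟨hb, ha⟩, rfl⟩, (rfm_eq hb).symm⟩
    | one => exact ⟨1, one_mem _, D.Wm_one⟩
    | mul x y _ _ hx hy =>
      obtain ⟨a, ha, rfl⟩ := hx
      obtain ⟨b, hb, rfl⟩ := hy
      exact ⟨a * b, mul_mem ha hb, D.Wm_mul a b⟩
  · rintro ⟨w, hw, rfl⟩
    induction hw using Subgroup.closure_induction'' with
    | mem x hx =>
      obtain ⟨b, hb, rfl⟩ := hx
      exact rfm_eq hb.1 ▸ rfm_mem hb.2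
    | inv_mem x hx =>
      obtain ⟨b, hb, rfl⟩ := hx
      rw [inv_eq_of_mul_eq_one_left (D.rf_mul_self hb.1)]
      exact rfm_eq hb.1 ▸ rfm_mem hb.2
    | one => exact D.Wm_one ▸ one_mem _
    | mul x y _ _ hx hy => exact D.Wm_mul x y ▸ mul_mem hx hy

theorem Wm_mem (w : D.W) : D.Wm w ∈ WW (rts D) := by
  induction w using D.cs.simple_induction_left with
  | one => exact D.Wm_one ▸ one_mem _
  | mul_simple_left w i h =>
    have hi := Tits.Roots.isRoot_sr D.cs D.h i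
    rw [D.Wm_mul, ← D.rf_sr, ← rfm_eq hi]
    exact mul_mem (rfm_mem (rt_mem hi)) h

theorem mem_WW {A : Mat D.R} : A ∈ WW (rts D) ↔ ∃ w, D.Wm w = A :=
  ⟨fun h => ((mem_WW_sub subset_rfl).1 h).imp fun _ h => h.2, fun ⟨w, h⟩ => h ▸ Wm_mem w⟩

theorem cj_iff : Cj (rts D) c c' ↔ ∃ v, Rel D v c c' :=
  ⟨fun ⟨_, h, e⟩ => (mem_WW.1 h).imp fun _ h => by rw [rel_iff, h]; exact e, fun ⟨v, h⟩ => ⟨_, Wm_mem v, h⟩⟩

theorem Cj.symm' {Ψ : RS D.R} (h : Ψ ⊆ rts D) (e : Cj Ψ c c') : Cj Ψ c' c := by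
  obtain ⟨A, hA, e⟩ := e
  obtain ⟨w, hw, rfl⟩ := (mem_WW_sub h).1 hA
  exact ⟨_, (mem_WW_sub h).2 ⟨w⁻¹, inv_mem hw, rfl⟩, Rel.symm e⟩

theorem Wm_pow {l : ℕ} (hl : 0 < l) (w : D.W) : (D.pow hl).Wm w = D.Wm w := rfl

theorem rts_pow {l : ℕ} (hl : 0 < l) : rts (D.pow hl) = rts D := rfl

theorem nb_pow {l : ℕ} (hl : 0 < l) : nb (D.pow hl) = nb D := rfl

/-- the Weyl group of a Levi subsystem is the stabiliser -/
theorem mem_WW_lev {A : Mat D.R} : A ∈ WW (lev (rts D) lam) ↔ ∃ w ∈ Wl D lam, D.Wm w = A := by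
  obtain ⟨d, e, H⟩ := D.exists_split'
  have h0 : ∀ a, D.Rt a → D.g^[d] a = a := fun a ha => by
    have h1 := (D.pow H.d_pos).wt_g ha
    have h2 : (D.pow H.d_pos).Mx = _ := D.Mx_pow H
    have h3 := (D.pow H.d_pos).eq_g_of_ψ ha ha (c := (p : ℤ) ^ e) (pow_pos (Nat.cast_pos.2 (Fact.out : p.Prime).pos) _)
      (D.wt_injective (by rw [(D.pow H.d_pos).wt_ψ, h2, vecMul_smul, vecMul_one, map_zsmul]))
    exact h3.symm
  have h1 := KZ.Lie.ApiC.range_subW_Zl (D := D.pow H.d_pos) (RL.lf_hl (D.pow H.d_pos) lam) fun a ha => by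
    rw [show (D.pow H.d_pos).g a = a from h0 a ha.1]
    exact ha
  rw [Datum.range_subW] at h1
  rw [mem_WW_sub (lev_sub _ _), show Wl D lam = _ from h1.symm]
  have h2 : {b | D.Rt b ∧ (D.wt b, D.cor b) ∈ lev (rts D) lam} = (D.pow H.d_pos).Sz (Zl (D.pow H.d_pos) lam) :=
    Set.ext fun b => Iff.trans ⟨fun h => ⟨h.1, h.2.2⟩, fun h => ⟨h.1, rt_mem h.1, h.2⟩⟩
      (mem_Sz_Zl (RL.lf_hl (D.pow H.d_pos) lam)).symm
  rw [h2]
  rfl

/-- the roots which vanish at a complex vector form a Levi subsystem -/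
theorem exists_pat (y : D.R → ℂ) : ∃ lam : Vec D.R, ∀ a ∈ rts D, (a.1 ⬝ᵥ lam = 0 ↔ ev a.1 y = 0) := by
  obtain ⟨lam, h⟩ := RL.exists_lam D {mu | ∀ a ∈ rts D, ev a.1 y = 0 → a.1 ⬝ᵥ mu = 0}
  refine ⟨lam, ?_⟩
  rintro _ ⟨b, hb, rfl⟩
  refine (h b hb).trans ⟨fun h1 => by_contra fun h2 => ?_, fun h1 mu hmu => hmu _ (rt_mem hb) h1⟩
  obtain ⟨φ, hφ⟩ := Module.Projective.exists_dual_ne_zero ℚ h2
  obtain ⟨n, hn⟩ := IsLocalization.exist_integer_multiples_of_finite (nonZeroDivisors ℤ) fun i => φ (y i)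
  choose mu hmu using hn
  have h3 : ∀ a : Vec D.R, ((a ⬝ᵥ mu : ℤ) : ℚ) = (n : ℤ) • φ (ev a y) := fun a => by
    simp only [ev, dotProduct, map_sum, Finset.smul_sum, Int.cast_sum, Int.cast_mul]
    refine Finset.sum_congr rfl fun i _ => ?_
    rw [show ((mu i : ℤ) : ℚ) = _ from hmu i, ← zsmul_eq_mul, ← zsmul_eq_mul, map_zsmul, smul_comm]
  have h4 : D.wt b ⬝ᵥ mu = 0 := h1 mu fun a _ e => Int.cast_injective (α := ℚ) (by rw [h3, e, map_zero, smul_zero, Int.cast_zero])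
  have h5 := h3 (D.wt b)
  rw [h4, Int.cast_zero] at h5
  exact hφ ((smul_eq_zero.1 h5.symm).resolve_left (nonZeroDivisors.coe_ne_zero n))

theorem lev_lev (lam mu : Vec D.R) : ∃ nu, lev (lev (rts D) lam) mu = lev (rts D) nu := by
  obtain ⟨nu, h⟩ := RL.exists_lam D {lam, mu}
  refine ⟨nu, Set.ext fun a => ⟨fun e => ⟨e.1.1, ?_⟩, fun e => ?_⟩⟩
  · obtain ⟨⟨⟨b, hb, rfl⟩, e1⟩, e2⟩ := e
    exact (h b hb).2 (by rintro _ (rfl | rfl); exacts [e1, e2])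
  · obtain ⟨⟨b, hb, rfl⟩, e⟩ := e
    exact ⟨⟨rt_mem hb, (h b hb).1 e _ (.inl rfl)⟩, (h b hb).1 e _ (.inr rfl)⟩

theorem fo_of_fx (h : Fx D w c) : Fo p c := by
  obtain ⟨d, e, L⟩ := exists_lvl D
  have h1 := Nat.one_lt_pow L.e_pos.ne' (Fact.out : p.Prime).one_lt
  refine ⟨p ^ e - 1, fun h2 => (Fact.out : p.Prime).not_dvd_one ?_, funext fun i => ?_⟩
  · have h3 := Nat.dvd_sub (dvd_pow_self p L.e_pos.ne') h2
    rwa [Nat.sub_sub_self h1.le] at h3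
  · have h3 := h.pow L (Pi.single i 1)
    rw [chr_single] at h3
    rw [Pi.pow_apply, pow_sub _ h1.le, h3, pow_one, mul_inv_cancel, Pi.one_apply]

namespace St

variable (h : St D j B)
include h

theorem q_ne : ((p : ℤ) ^ j) ≠ 0 := pow_ne_zero _ (Nat.cast_ne_zero.2 (Fact.out : p.Prime).ne_zero)

theorem WM (w : D.W) : D.Wm w * D.Mx = ((p : ℤ) ^ j) • (D.Wm w * B) := by rw [h.mx, mul_smul_comm]

theorem cor_g (w : D.W) {a : D.I → ℤ} (ha : D.Rt a) : (D.Wm w * B) *ᵥ D.cor a = D.cor (D.act w (D.g a)) :=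
  smul_right_injective _ h.q_ne (by
    show ((p : ℤ) ^ j) • _ = ((p : ℤ) ^ j) • _
    rw [← smul_mulVec, ← h.WM, ← mulVec_mulVec, D.Mx_cor ha, h.ex a ha, mulVec_smul, D.cor_act w (D.g_root a ha)])

theorem wt_g (w : D.W) {a : D.I → ℤ} (ha : D.Rt a) : D.wt (D.act w (D.g a)) ᵥ* (D.Wm w * B) = D.wt a :=
  smul_right_injective _ h.q_ne (by
    show ((p : ℤ) ^ j) • _ = ((p : ℤ) ^ j) • _
    rw [← vecMul_smul, ← h.WM, wt_gw w ha, h.ex a ha])

theorem nm (w : D.W) : Nm (D.Wm w * B) (rts D) := by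
  rintro _ ⟨a, ha, rfl⟩
  exact ⟨_, rt_mem ((D.g_root a ha).act w), h.cor_g w ha, h.wt_g w ha⟩

theorem nm' : Nm B (rts D) := by simpa only [D.Wm_one, one_mul] using h.nm 1

/-- stable subsets of the roots -/
theorem nm_iff {Ψ : RS D.R} (e : Ψ ⊆ rts D) : Nm (D.Wm w * B) Ψ ↔ ∀ a, D.Rt a → (D.wt a, D.cor a) ∈ Ψ →
    (D.wt (D.act w (D.g a)), D.cor (D.act w (D.g a))) ∈ Ψ := by
  refine ⟨fun h1 a ha h2 => ?_, fun h1 a ha => ?_⟩
  · obtain ⟨b, hb, h3, h4⟩ := h1 _ h2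
    obtain ⟨b, hb', rfl⟩ := e hb
    obtain ⟨a', ha', rfl⟩ := gw_surj w hb'
    rwa [D.wt_injective ((h.wt_g w ha').symm.trans h4)] at hb
  · obtain ⟨a, ha', rfl⟩ := e ha
    exact ⟨_, h1 a ha' ha, h.cor_g w ha', h.wt_g w ha'⟩

theorem pow_eq {d e : ℕ} (L : Lvl D d e) (w : D.W) : (D.Wm w * B) ^ d = 1 := by
  cases isEmpty_or_nonempty D.R
  · exact Subsingleton.elim _ _
  obtain ⟨n, hn, h1⟩ := h.fin
  have h2 : ∀ w, ((p : ℤ) ^ (j * d)) • (D.Wm w * B) ^ d = ((p : ℤ) ^ e) • (1 : Mat D.R) := fun w => by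
    rw [← L.pow w, h.WM, smul_pow, ← pow_mul]
  have h3 := congrArg (· ^ n) (h2 1)
  simp only [D.Wm_one, one_mul, smul_pow, ← pow_mul, one_pow] at h3
  rw [mul_comm d, pow_mul B, h1, one_pow] at h3
  obtain ⟨i⟩ := ‹Nonempty D.R›
  have h4 := congrFun (congrFun h3 i) i
  simp only [Matrix.smul_apply, one_apply_eq, smul_eq_mul, mul_one] at h4
  have h5 := Nat.eq_of_mul_eq_mul_right hn (Nat.pow_right_injective (Fact.out : p.Prime).two_le (by exact_mod_cast h4))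
  refine smul_right_injective _ (pow_ne_zero e (Nat.cast_ne_zero.2 (Fact.out : p.Prime).ne_zero) : ((p : ℤ) ^ e) ≠ 0) ?_
  show ((p : ℤ) ^ e) • _ = ((p : ℤ) ^ e) • _
  rw [← h2 w, h5]

theorem fin' (w : D.W) : ∃ n, 0 < n ∧ (D.Wm w * B) ^ n = 1 := by
  obtain ⟨d, e, L⟩ := exists_lvl D
  exact ⟨d, L.d_pos, h.pow_eq L w⟩

theorem tc_iff {w' : D.W} : Tc D v w w' ↔ D.Wm w' * B * D.Wm v = D.Wm v * (D.Wm w * B) := by
  have h1 : B * D.Wm v = D.Wm (D.Fw v) * B := smul_right_injective _ h.q_ne (by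
    show ((p : ℤ) ^ j) • _ = ((p : ℤ) ^ j) • _
    rw [← smul_mul_assoc, ← h.mx, D.Mx_Wm, h.mx, mul_smul_comm])
  obtain ⟨n, hn, h2⟩ := h.fin
  rw [Tc, mul_assoc, h1, ← mul_assoc, ← mul_assoc, ← D.Wm_mul, ← D.Wm_mul]
  exact ⟨fun e => by rw [e], fun e => D.Wm_injective ((IsUnit.of_pow_eq_one h2 hn.ne').mul_right_cancel e)⟩

/-- a stable set of roots in a proper Levi subsystem lies in the proper Levi subsystem of an eigenvector -/
theorem exists_eig {Ψ : RS D.R} (h1 : Nm (D.Wm w * B) Ψ) (h2 : Ψ ⊆ lev (rts D) lam) (h3 : lev (rts D) lam ≠ rts D) :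
    ∃ μ y mu, IsE (D.Wm w * B) μ y ∧ Eig (rts D) (D.Wm w * B) μ ∧ (∀ a ∈ rts D, (a.1 ⬝ᵥ mu = 0 ↔ ev a.1 y = 0)) ∧
      Ψ ⊆ lev (rts D) mu ∧ lev (rts D) mu ≠ rts D := by
  obtain ⟨n, hn, h4⟩ := h.fin' w
  obtain ⟨a, ha, h5⟩ : ∃ a ∈ rts D, a.1 ⬝ᵥ lam ≠ 0 := by simpa only [Perp, not_forall, exists_prop] using lev_ne.1 h3
  obtain ⟨μ, y, h6, h7, h8⟩ := exists_isE hn h4 h1 (fun b hb => (h2 hb).2) h5
  obtain ⟨mu, h9⟩ := exists_pat y
  exact ⟨μ, y, mu, h6, ⟨y, h6, a, ha, h8⟩, h9, fun b hb => ⟨(h2 hb).1, (h9 b (h2 hb).1).2 (h7 b hb)⟩,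
    lev_ne.2 fun e => h8 ((h9 a ha).1 (e a ha))⟩

end St

namespace Sb

variable (s : Sb D)

theorem cor_eq {b : s.E.I → ℤ} (hb : s.E.Rt b) : s.E.cor b = D.cor ((D.conj s.hy s.hF).io s.Z b) := by
  have h1 : D.Rt ((D.conj s.hy s.hF).io s.Z b) := (((D.conj s.hy s.hF).sub_rt s.hZ s.hg rfl).1 hb).1
  refine D.eq_of_vecMulVec h1 (sub_right_injective (b := 1) ?_)
  exact ((s.E.Wm_rf hb).symm.trans ((s.Wm_eq _).trans
    (congrArg D.Wm ((D.conj s.hy s.hF).subW_rf s.hZ s.hg rfl hb)))).trans (D.Wm_rf h1)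

theorem mem_rts {a : Vec D.R × Vec D.R} :
    a ∈ rts s.E ↔ ∃ b ∈ (D.conj s.hy s.hF).Sz s.Z, a = (D.wt b, D.cor b) := by
  refine ⟨fun ⟨b, hb, e⟩ => ⟨_, ((D.conj s.hy s.hF).sub_rt s.hZ s.hg rfl).1 hb, e.trans (by rw [s.cor_eq hb]; rfl)⟩, ?_⟩
  rintro ⟨b, hb, rfl⟩
  obtain ⟨b, hb', rfl⟩ := ((D.conj s.hy s.hF).io_roots s.Z).ge hb
  exact ⟨b, hb', by rw [s.cor_eq hb']; rfl⟩

theorem rts_sub : rts s.E ⊆ rts D := fun _ h => (s.mem_rts.1 h).imp fun _ h => ⟨h.1.1, h.2⟩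

theorem nr_le : nr s.E ≤ nr D := Set.ncard_le_ncard s.rts_sub (finite_rts D)

theorem nr_lt (h : rts s.E ≠ rts D) : nr s.E < nr D := Set.ncard_lt_ncard (s.rts_sub.ssubset_of_ne h) (finite_rts D)

theorem sw_injective : Function.Injective s.sw := (D.conj s.hy s.hF).subW_injective s.Z

theorem ι_injective : Function.Injective s.ι := Subgroup.inclusion_injective _

theorem mem_WW {A : Mat D.R} : A ∈ WW (rts s.E) ↔ ∃ u, D.Wm (s.sw u) = A := by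
  rw [L.mem_WW (D := s.E)]
  simp only [s.Wm_eq]

theorem rel_iff {u : s.E.W} : Rel s.E u c c' ↔ Rel D (s.sw u) c c' := by rw [L.rel_iff, s.Wm_eq, L.rel_iff]

theorem fx_iff {u : s.E.W} : Fx s.E u c ↔ Fx D (s.sw u * s.w) c := by rw [L.fx_iff, s.WM_eq, L.fx_iff]

theorem card_le : Nat.card s.E.W ≤ Nat.card D.W := Nat.card_le_card_of_injective _ s.sw_injective

theorem nb_le : nb s.E ≤ nb D :=
  Nat.mul_le_mul s.card_le (Nat.pow_le_pow_right two_pos (by rw [← nr_eq, ← nr_eq]; exact s.nr_le))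

theorem pc_le : pc 2 (GF F s.K) ≤ pc 2 (GF F G) := by
  have := D.amb.finite_GF G
  have := D.amb.finite_GF s.K
  exact Nat.pow_le_pow_right two_pos ((Nat.factorization_le_iff_dvd Nat.card_pos.ne' Nat.card_pos.ne').2
    (Subgroup.card_dvd_of_le s.le) 2)

theorem sz_le : sz s.E ≤ sz D := Nat.mul_le_mul (Nat.mul_le_mul_left 2 s.nb_le) s.pc_le

variable {s}

theorem _root_.Cfsg.Agent.HZ.L.St.sub (h : St D j B) (hq : s.E.QS) : St s.E j (D.Wm s.w * B) where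
  pos := h.pos
  mx := h.WM s.w
  qs := hq
  fin := h.fin' s.w
  ex _ hb := h.ex _ (((D.conj s.hy s.hF).sub_rt s.hZ s.hg rfl).1 hb).1

theorem _root_.Cfsg.Agent.HZ.L.St.nm_sub (h : St D j B) (hq : s.E.QS) : Nm (D.Wm s.w * B) (rts s.E) := (h.sub hq).nm'

theorem For.range [Fintype ↥(GF F G)] {r : ℕ} {P : Subgroup ↥(GF F G)} (h : s.For r P) : s.ι.range = Subgroup.centralizer (P : Set ↥(GF F G)) :=
  Subgroup.ext fun g => ⟨fun ⟨x, e⟩ => (mem_C h.cen).1 (e ▸ x.2.1), fun e => ⟨⟨g, (mem_C h.cen).2 e, g.2.2⟩, rfl⟩⟩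

end Sb

variable (D) in
theorem nb_pos : 0 < nb D := mul_pos Nat.card_pos (pow_pos two_pos _)

variable (D) in
theorem card_le_nb : Nat.card D.W ≤ nb D := Nat.le_mul_of_pos_right _ (pow_pos two_pos _)

variable (D) in
theorem nb_le_sz : 2 * nb D ≤ sz D := Nat.le_mul_of_pos_right _ (pow_pos two_pos _)

variable (D) in
theorem pc_le_sz : pc 2 (GF F G) ≤ sz D := Nat.le_mul_of_pos_left _ (mul_pos two_pos (nb_pos D))

variable (D) in
theorem two_le_sz : 2 ≤ sz D := (Nat.le_mul_of_pos_right _ (nb_pos D)).trans (nb_le_sz D)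

theorem le_bd {n m : ℕ} (hn : 0 < n) : m * m ≤ bd n m := by
  rw [bd, ← sq]
  exact Nat.pow_le_pow_left (le_add_left (Nat.le_mul_of_pos_left _ (mul_pos (pow_pos four_pos _) hn))) 2

namespace Hu

variable {r : ℕ} (h : Hu D r)
include h

theorem sub (s : Sb D) : Hu s.E r := ⟨h.prime, h.ne, (bd_mono s.sz_le (Nat.pow_le_pow_left s.sz_le 8)).trans_lt h.big⟩

theorem bd_lt {n m : ℕ} (hn : n ≤ sz D) (hm : m ≤ sz D ^ 8) : bd n m < r := (bd_mono hn hm).trans_lt h.big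

theorem pow_le {i : ℕ} (hi : i ≤ 8) : sz D ^ i ≤ sz D ^ 8 := Nat.pow_le_pow_right (two_pos.trans_le (two_le_sz D)) hi

/-- the bound for functions of norm at most `sz D ^ i` -/
theorem bd_nb {m i : ℕ} (hm : m ≤ sz D ^ i) (hi : i ≤ 8) : bd (nb D) m < r :=
  h.bd_lt ((Nat.le_mul_of_pos_left _ two_pos).trans (nb_le_sz D)) (hm.trans (h.pow_le hi))

theorem pow_lt : sz D ^ 16 < r := by
  refine lt_of_le_of_lt ?_ h.big
  rw [show 16 = 8 + 8 from rfl, pow_add]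
  exact le_bd (two_pos.trans_le (two_le_sz D))

theorem lt {m i : ℕ} (hm : m ≤ sz D ^ i) (hi : i ≤ 15) : m + 1 < r := by
  have h1 := two_le_sz D
  have h2 : sz D ^ i ≤ sz D ^ 15 := Nat.pow_le_pow_right (by omega) hi
  have h3 : 1 ≤ sz D ^ 15 := Nat.one_le_pow _ _ (by omega)
  have h4 := h.pow_lt
  rw [pow_succ] at h4
  nlinarith

theorem card_le : Nat.card D.W ≤ sz D ^ 1 := by
  have := nb_le_sz D
  have := card_le_nb D
  rw [pow_one]
  omega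

theorem not_dvd : ¬ r ∣ Nat.card D.W := fun e => by
  have := Nat.le_of_dvd Nat.card_pos e
  have := h.lt h.card_le (by norm_num)
  omega

theorem big_GF [Fact r.Prime] : Big ↥(GF F G) r (nb D) := Gen.big_GF D h.ne h.not_dvd

end Hu

variable [Fintype ↥(GF F G)] {f : Fr D} {χ : ↥(GF F G) → ℂ} {Λ : Set (Lbl D)}

theorem Has.fx (h : Has f χ w c) : Fx D w c := LV.One.fx_of_ne f h

theorem Has.fo (h : Has f χ w c) : Fo p c := fo_of_fx h.fx

theorem Has.conj {w' : D.W} (h : Has f χ w c) (ht : Tc D v w w') (hr : Rel D v c c') : Has f χ w' c' := by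
  rwa [Has, ← RW_conj f ht hr]

theorem Has.gal (hχ : IsIrrCharacter _ χ) (h : Has f χ w c) {σ : ℂ ≃+* ℂ} (hσ : Fix σ χ) : Has f χ w (gal σ c) := by
  have h1 := LV.One.inner_gal f σ hχ h
  rwa [show (fun g => σ (χ g)) = χ from funext hσ] at h1

theorem irr_one_ne {H : Type*} [Group H] [Finite H] {χ : H → ℂ} (hχ : IsIrrCharacter H χ) : χ 1 ≠ 0 :=
  isIrr_apply_one_ne_zero hχ

theorem aL_eq_one (hχ : IsIrrCharacter _ χ) (h : ∀ w c, Has f χ w c → c ∈ Λ) : aL f Λ χ = 1 := by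
  classical
  rw [aL, div_eq_one_iff_eq (irr_one_ne hχ), val_one f χ]
  refine congrArg _ (finsum_congr fun w => finsum_congr fun c => ?_)
  by_cases hc : c ∈ Λ
  · exact finsum_eq_if.trans (if_pos hc)
  · rw [finsum_eq_if, if_neg hc, not_not.1 (mt (h w c) hc), zero_mul]

theorem aL_eq_zero (h : ∀ w c, Has f χ w c → c ∉ Λ) : aL f Λ χ = 0 := by
  classical
  rw [aL, finsum_eq_zero_of_forall_eq_zero, mul_zero, zero_div]
  refine fun w => finsum_eq_zero_of_forall_eq_zero fun c => finsum_eq_if.trans ?_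
  split_ifs with hc
  · rw [not_not.1 (mt (h w c) (not_not.2 hc)), zero_mul]
  · rfl

variable (f) in
theorem exists_has (hχ : IsIrrCharacter _ χ) : ∃ w c, Has f χ w c := by
  by_contra h
  exact zero_ne_one ((aL_eq_zero (f := f) (Λ := Set.univ) fun w c e => absurd ⟨w, c, e⟩ h).symm.trans
    (aL_eq_one hχ fun _ _ _ => trivial))

theorem sm_irr {H : Type*} [Group H] [Fintype H] {χ : H → ℂ} {r : ℕ} (hχ : IsIrrCharacter H χ) (h : RatR r χ) :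
    Sm r 1 χ := ⟨gen_of_irr hχ, by rw [classInner_irr_self hχ]; simp, h⟩

end Cfsg.Agent.HZ.L
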