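import Cfsg.Agent.HZ.L.Ind
import Cfsg.Agent.HZ.L.RegT.Main

/-!
# HZ/L: the package which the rows may assume (helper66)
-/

set_option autoImplicit false

namespace Cfsg.Agent.HZ.L

open Cfsg

attribute [local instance] Reg.gY Reg.fN Reg.dN Reg.fin in
theorem rt (p : ℕ) [Fact p.Prime] : RT p := fun _ _ _ _ _ R => ⟨R.nr_eq, R.ex, cz_of R.cz, fun h _ hχ _ _ _ _ => R.cj h hχ⟩

/-- the generic boxes and the exact statement, in all odd characteristics -/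
def Pk : Prop := ∀ (p : ℕ) [Fact p.Prime], p ≠ 2 → Tools p ∧ ExAll p

theorem pk_of (T : ∀ (p : ℕ) [Fact p.Prime], Tools p) (X : ∀ (p : ℕ) [Fact p.Prime], p ≠ 2 → FmX p) : Pk :=
  fun p _ hp => ⟨T p, exAll_of (T p) hp (rt p) (X p hp)⟩

theorem Pk.res (h : Pk) {p : ℕ} [Fact p.Prime] (hp : p ≠ 2) {L : LS} (hF : Fm p L) : Res p L :=
  res_of (h p hp).1 hp (h p hp).2 hF

end Cfsg.Agent.HZ.L
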