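import Cfsg.Agent.HZ.L.Bas
import Cfsg.Agent.KM.Sc.Dat

/-!
# HZ/L: the datum `KM.Dat.Alg.dat` in the language of `HZ.L` (helper66)
-/

set_option autoImplicit false
set_option linter.unusedSectionVars false

namespace Cfsg.Agent.HZ.L

open Cfsg Cfsg.Agent.DL Matrix Cfsg.Agent.TwoF.DC Cfsg.Agent.KM.Dat Cfsg.Agent.Tits.Roots
  Cfsg.Agent.ChevalleyStructure.CoxeterGeom

/-- permutation matrices -/
def Pm {ι : Type} [DecidableEq ι] (σ : Equiv.Perm ι) : Mat ι := Matrix.of fun i => Pi.single (σ.symm i) 1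

theorem Pm_mulVec {ι : Type} [Fintype ι] [DecidableEq ι] (σ : Equiv.Perm ι) (v : ι → ℤ) : Pm σ *ᵥ v = v ∘ σ.symm :=
  funext fun i => (single_dotProduct v 1 (σ.symm i)).trans (one_mul _)

theorem Pm_one {ι : Type} [Fintype ι] [DecidableEq ι] : Pm (1 : Equiv.Perm ι) = 1 :=
  Matrix.ext_iff_mulVec.2 fun v => by rw [Pm_mulVec, one_mulVec]; rfl

theorem Pm_mul {ι : Type} [Fintype ι] [DecidableEq ι] (σ τ : Equiv.Perm ι) : Pm (σ * τ) = Pm σ * Pm τ :=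
  Matrix.ext_iff_mulVec.2 fun v => by rw [← mulVec_mulVec, Pm_mulVec, Pm_mulVec, Pm_mulVec]; rfl

theorem Pm_pow {ι : Type} [Fintype ι] [DecidableEq ι] (σ : Equiv.Perm ι) (n : ℕ) : Pm (σ ^ n) = Pm σ ^ n := by
  induction n with
  | zero => rw [pow_zero, pow_zero, Pm_one]
  | succ n ih => rw [pow_succ, pow_succ, Pm_mul, ih]

section

variable {p : ℕ} [Fact p.Prime] {k : Type} [Field k] [CharP k p] [IsAlgClosed k] {Y : Type} [Group Y] {N : Type}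
  [Fintype N] [DecidableEq N] {ρ : Y →* GL N k} {F : MulAut Y} {G : Subgroup Y} (D : Datum p ρ F G) {a b : D.I → ℤ}

theorem wt_rf (ha : D.Rt a) (b : D.I → ℤ) : D.wt (D.act (D.rf a) b) = D.wt b - (D.wt b ⬝ᵥ D.cor a) • D.wt a := by
  rw [← inv_eq_of_mul_eq_one_left (D.rf_mul_self ha), D.wt_act', D.Wm_rf ha, vecMul_sub, vecMul_one, vecMul_vecMulVec]

theorem cor_rf (ha : D.Rt a) (hb : D.Rt b) : D.cor (D.act (D.rf a) b) = D.cor b - (D.wt a ⬝ᵥ D.cor b) • D.cor a := by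
  rw [D.cor_act _ hb, D.Wm_rf ha, sub_mulVec, one_mulVec, vecMulVec_mulVec, op_smul_eq_smul]

end

variable {p : ℕ} [Fact p.Prime] {ι Φ k G : Type} [Fintype ι] [DecidableEq ι] [Fintype Φ] [DecidableEq Φ] [Field k]
  [IsAlgClosed k] [CharP k p] [Group G] {D : RDat p ι Φ k G} {P : Tws D} {N : Type} [Fintype N] [DecidableEq N]
  {ρ : G →* GL N k} (h : Alg P ρ)

theorem alg_st : St h.dat P.f (Pm P.sι) where
  pos := P.f_pos
  mx := Matrix.ext fun (i j : ι) => by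
    show (Pi.single (P.sι.symm i) ((p ^ P.f : ℕ) : ℤ) : ι → ℤ) j = (p : ℤ) ^ P.f * (Pi.single (P.sι.symm i) 1 : ι → ℤ) j
    rw [Pi.single_apply, Pi.single_apply]
    split_ifs <;> simp
  qs := h.qs
  fin := ⟨orderOf (P.sι : Equiv.Perm ι), orderOf_pos _,
    (Pm_pow _ _).symm.trans ((congrArg Pm (pow_orderOf_eq_one (P.sι : Equiv.Perm ι))).trans Pm_one)⟩
  ex _ _ := rfl

theorem alg_cor_zi (i : ι) : h.dat.cor (rv P (true, D.R.zi i)) = Pi.single i 1 := by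
  rw [← sr_ob]
  exact (h.dat.cor_sr (ob P i)).trans (congrArg (Pi.single · 1) (rp_ob P i))

theorem alg_cor (x : Bool × Φ) : h.dat.cor (rv P x) = D.R.cov x := by
  have h0 : ∀ x, h.dat.Rt (rv P x) := fun x => h.rt_iff.2 ⟨x, rfl⟩
  have h1 : ∀ i x, h.dat.cor (rv P x) = D.R.cov x → h.dat.cor (rv P (D.R.sr i x)) = D.R.cov (D.R.sr i x) := fun i x e => by
    have h2 := wt_rf h.dat (h0 (true, D.R.zi i)) (rv P x)
    have h3 := cor_rf h.dat (h0 (true, D.R.zi i)) (h0 x)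
    rw [alg_cor_zi, h.dat_wt, h.dat_wt] at h2
    rw [alg_cor_zi, h.dat_wt, e] at h3
    refine (congrArg h.dat.cor (h.dat.wt_injective ((h.dat_wt _).trans ((D.R.wt_sr i x).trans (Eq.trans ?_ h2.symm))))).trans
      (h3.trans (Eq.trans ?_ (D.R.cov_sr i x).symm))
    · exact congrArg (fun t : ℤ => D.R.wt x - t • D.R.wt (true, D.R.zi i)) (dotProduct_single_one _ _).symm
    · exact congrArg (fun t : ℤ => D.R.cov x - t • (Pi.single i 1 : ι → ℤ)) (dotProduct_comm _ _)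
  obtain ⟨l, i, rfl⟩ := D.R.exists_srl_zi x
  induction l with
  | nil => exact (alg_cor_zi h i).trans (D.R.cov_zi i).symm
  | cons j l ih => exact h1 j _ ih

theorem alg_rts : rts h.dat = Set.range fun x => (D.R.wt x, D.R.cov x) := Set.ext fun _ =>
  ⟨fun ⟨_, hb, e⟩ => (h.rt_iff.1 hb).imp fun x hx => by rw [e, ← hx, h.dat_wt, alg_cor]; rfl,
    fun ⟨x, e⟩ => ⟨_, h.rt_iff.2 ⟨x, rfl⟩, by rw [← e, h.dat_wt, alg_cor]; rfl⟩⟩

end Cfsg.Agent.HZ.L
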