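import Cfsg.Agent.HZ.L.Pk

/-!
# HZ/L: the inductions with an inductive form of `Ht` (helper66)
-/

set_option autoImplicit false
set_option linter.unusedSectionVars false

namespace Cfsg.Agent.HZ.L

open Cfsg Cfsg.Agent.DL Cfsg.Agent.DL.PP Cfsg.Agent.DL.Uni Cfsg.Agent.DL.Asm Cfsg.Agent.Nodes.Reps Matrix
  Cfsg.Agent.KZ.Lie Cfsg.Agent.HZ.Gen Cfsg.Agent.ODD.Red

variable (p : ℕ) [Fact p.Prime] (L : LS)

/-- the labels of fixed characters of height zero are good, for fewer roots -/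
def GdLt (M : Ideal AlgInt) (σ : ℂ ≃+* ℂ) (n : ℕ) : Prop := AllD p fun D => ∀ j B, St D j B → L.adm (rts D) B → nr D < n →
  ∀ (f : Fr D) χ, IsIrrCharacter _ χ → H0 M χ → Fix σ χ → ∀ w c, Has f χ w c → Gd c

/-- the inductive form of `Ht`; the level is large -/
def HtI : Prop := ∀ M, IsPModular 2 M → ∀ σ, Sg σ → AllD p fun D => ∀ j B, St D j B → L.adm (rts D) B → GdLt p L M σ (nr D) →
  ∀ (f : Fr D) χ, IsIrrCharacter _ χ → Rich D B χ → H0 M χ → Fix σ χ → ∀ w c, Has f χ w c →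
    L.ht (rts D) (D.Wm w * B) c → Gd c

/-- `Fm` without `Ht` -/
structure Fm0 : Prop where
  ok : OK p L
  b1 : AllD p fun D => ∀ j B, St D j B → L.adm (rts D) B → Ex (rts D) ∨ B1 D L B
  tri : AllD p fun D => ∀ j B, St D j B → L.adm (rts D) B → Tri D L B

variable {p L} (T : Tools p) (hp : p ≠ 2) (hE : ExAll p) (hF : Fm0 p L)
include T hp hE hF

theorem Fm0.oneLt (n : ℕ) : OneLt p L n := oneLt_of T hp hE hF.ok hF.b1 n

theorem Fm0.one : AllD p fun D => ∀ j B, St D j B → L.adm (rts D) B → One D L :=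
  fun D _ j B h ha => hF.oneLt T hp hE _ D j B h ha (Nat.lt_succ_self _)

theorem gdLt_of (hH : HtI p L) {M : Ideal AlgInt} (hM : IsPModular 2 M) {σ : ℂ ≃+* ℂ} (hσ : Sg σ) (n : ℕ) :
    GdLt p L M σ n := by
  induction n with
  | zero => exact fun D _ _ _ _ _ h => absurd h (Nat.not_lt_zero _)
  | succ n ih =>
    intro k _ _ _ Y _ N _ _ ρ F G D _ j B h ha hn f χ hχ h0 hf w c hc
    by_contra hg
    obtain ⟨l, hl, _, f', j', χ', h', hχ', hR, e, e1, e2⟩ := exists_rich T hp h f hχ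
    rcases (hF.tri D j B h ha).bad w c hc.fx hg σ hσ (hF.one T hp hE D j B h ha f χ hχ w c w _ hc (hc.gal hχ hf)) with hC | hC
    · have o := hF.ok (D.pow hl) j' B h' ha
      obtain ⟨r, _, P, s, _, lam, ε, η, hu, hr, hs, h1, h2, hη, h3, -⟩ :=
        exists_cor (D := D.pow hl) T hF.ok h' ha (hF.oneLt T hp hE _) hχ' hR ((e w c).2 hc) hC
      obtain ⟨ψ, hψ, h4, h5, h6⟩ :=
        T.hz (D.pow hl) hp h'.qs r P s hu hs χ' ε η hχ' hr hη h3 M hM (e2 M hM h0) σ hσ.1 ((e1 σ).2 hf)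
      obtain ⟨u, c', h7, h8⟩ := br_lab T o h' (hF.one T hp hE _ _ _ h' ha) hu hs hχ' hr hψ h4 ((e w c).2 hc)
      exact hg ((hF.tri D j B h ha).hom c' c (o.symm _ _ h8) h7.fo hc.fo (ih s.E j' _ (h'.sub hs.qs) (o.adm_sub h' hs.qs h1)
        (h2.trans_le (Nat.lt_succ_iff.1 hn)) _ ψ hψ h5 h6 u c' h7))
    · exact hg (hH M hM σ hσ (D.pow hl) j' B h' ha (fun E _ j B a b c => ih E j B a b (c.trans_le (Nat.lt_succ_iff.1 hn)))
        f' χ' hχ' hR (e2 M hM h0) ((e1 σ).2 hf) w c ((e w c).2 hc) hC)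

theorem fix_of0 {τ : ℂ ≃+* ℂ} (hτ : Two τ) (hI : τ Complex.I = Complex.I) (n : ℕ) :
    AllD p fun D => ∀ j B, St D j B → L.adm (rts D) B → nr D < n →
      ∀ (f : Fr D) χ, IsIrrCharacter _ χ → ∀ w c, Has f χ w c → Gd c → Fix τ χ := by
  induction n with
  | zero => exact fun D _ _ _ _ _ h => absurd h (Nat.not_lt_zero _)
  | succ n ih =>
    intro k _ _ _ Y _ N _ _ ρ F G D _ j B h ha hn f χ hχ w c hc hg
    obtain ⟨l, hl, _, f', j', χ', h', hχ', hR, e, e1, -⟩ := exists_rich T hp h f hχ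
    have o := hF.ok (D.pow hl) j' B h' ha
    have t := hF.tri (D.pow hl) j' B h' ha
    have hc' := (e w c).2 hc
    refine (e1 τ).1 ?_
    rcases t.good w c hc'.fx hg with hC | hC
    · obtain ⟨r, _, P, s, _, lam, ε, η, hu, hr, hs, h1, h2, hη, h3, h4⟩ :=
        exists_cor (D := D.pow hl) T hF.ok h' ha (hF.oneLt T hp hE _) hχ' hR hc' hC
      obtain ⟨u, c', h5⟩ := exists_has (s.fr f') hη
      exact h3.fix hχ' hr hη (ih s.E j' _ (h'.sub hs.qs) (o.adm_sub h' hs.qs h1) (h2.trans_le (Nat.lt_succ_iff.1 hn)) _ η hη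
        u c' h5 (t.hom c c' (h4 u c' h5) hc.fo h5.fo hg))
    · refine T.tau (D.pow hl) hp j' B h' f' χ' hχ' hR w c hc' hC τ hτ hI fun r P s lam hu hr hs h1 h2 => ?_
      have := Fact.mk hu.prime
      have := (D.pow hl).amb.finite_GF s.K
      have := Fintype.ofFinite ↥(GF (F ^ l) s.K)
      refine fix_of_const (hu.rs_gen hs hχ' hr) fun ψ hψ h3 => ?_
      obtain ⟨u, c', h4, h5⟩ := br_lab T o h' (hF.one T hp hE _ _ _ h' ha) hu hs hχ' hr hψ h3 hc'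
      exact ih s.E j' _ (h'.sub hs.qs) (o.adm_sub h' hs.qs h1) ((s.nr_lt (h1 ▸ h2)).trans_le (Nat.lt_succ_iff.1 hn)) _ ψ hψ
        u c' h4 (t.hom c c' h5 hc.fo h4.fo hg)

/-- **the result for a family** -/
theorem res_of0 (hH : HtI p L) : Res p L :=
  fun D _ j B h ha M hM χ hχ h0 σ hσ hf => rat2_of_fixI hσ hf fun τ hτ hI => by
    obtain ⟨f⟩ := nonempty_fr D
    obtain ⟨w, c, hc⟩ := exists_has f hχ
    exact fix_of0 T hp hE hF hτ hI _ D j B h ha (Nat.lt_succ_self _) f χ hχ w c hc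
      (gdLt_of T hp hE hF hH hM hσ _ D j B h ha (Nat.lt_succ_self _) f χ hχ h0 hf w c hc)

end Cfsg.Agent.HZ.L
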